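import Cfsg.Agent.H37.Chev.Result

/-!
The normal form inside `GL`, the map onto the Coxeter group, fusion in the diagonal subgroup.
-/
set_option autoImplicit false

namespace Cfsg.Agent.H37.Chev

/-- The rank-one parabolic is `B ∪ B s B`. -/
theorem mem_parabolic_one {G : Type*} [Group G] (P : Cfsg.BNPair G) {s x : G} (hs : s ∈ P.S)
    (hx : x ∈ P.parabolic {s}) : x ∈ P.B ∨ ∃ b ∈ P.B, ∃ c ∈ P.B, x = b * s * c := by
  obtain ⟨l, hl, hxl⟩ := (H27.BN.mem_parabolic_iff P (Set.singleton_subset_iff.2 hs)).1 hx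
  have key : ∀ l : List G, (∀ y ∈ l, y ∈ ({s} : Set G)) →
      H27.BN.Eqv P l.prod 1 ∨ H27.BN.Eqv P l.prod s := by
    intro l
    induction l with
    | nil => intro _; exact Or.inl (H27.BN.Eqv.refl _)
    | cons a l ih =>
        intro h
        obtain rfl : a = s := h a (by simp)
        rw [List.prod_cons]
        rcases ih (fun y hy => h y (by simp [hy])) with h' | h'
        · exact Or.inr (by simpa using h'.mul_left a)
        · refine Or.inl ((h'.mul_left a).trans ?_)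
          show (a * a)⁻¹ * 1 ∈ P.B
          simpa using inv_mem (P.sq_mem a hs)
  rcases key l hl with h | h
  · left; rw [h.cell_eq] at hxl; exact (H27.BN.cell_one_iff P).1 hxl
  · right; rw [h.cell_eq] at hxl; exact (H27.BN.mem_cell P).1 hxl

end Cfsg.Agent.H37.Chev

namespace Cfsg.Agent.H37.Chev.Data

open Cfsg.Lie Cfsg.Agent.H37.RootSys

variable {D : ChevalleyDatum} {F : Type*} [Field F] (Q : Data D F)
include Q

/-- The representative of `w` in `GL`. -/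
noncomputable def repGL (w : Q.X.M.Group) : GL D.Idx F := ((Q.sys.rep w : ↥(D.group F)) : GL D.Idx F)

/-- The image of `U_w` in `GL`. -/
noncomputable def UwGL (w : Q.X.M.Group) : Subgroup (GL D.Idx F) :=
  (Q.amb.Uw w).map (D.group F).subtype

theorem mem_mono_iff {n : GL D.Idx F} : n ∈ D.monomialSubgroup F ↔
    ∃ h ∈ D.diagonalSubgroup F, ∃ w, n = h * Q.repGL w := by
  constructor
  · intro hn
    have hn' : (⟨n, monomial_le_group Q.ord hn⟩ : ↥(D.group F)) ∈ Q.amb.N := by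
      rw [Q.amb_N]; exact hn
    obtain ⟨h, hh, w, e⟩ := hn'
    exact ⟨_, show (h : GL D.Idx F) ∈ D.diagonalSubgroup F from hh, w, congrArg Subtype.val e⟩
  · rintro ⟨h, hh, w, rfl⟩
    exact mul_mem (Subgroup.mem_sup_left hh) (Q.rep_mem_monomial w)

theorem mem_group_exists {g : GL D.Idx F} (hg : g ∈ D.group F) :
    ∃ u ∈ D.posUnipotent F, ∃ h ∈ D.diagonalSubgroup F, ∃ w, ∃ v ∈ Q.UwGL w,
      g = u * h * Q.repGL w * v := by
  obtain ⟨u, hu, h, hh, w, v, hv, e⟩ := Q.amb.exists_eq ⟨g, hg⟩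
  rw [Q.amb_U] at hu
  exact ⟨u, hu, h, hh, w, v, ⟨v, hv, rfl⟩, congrArg Subtype.val e⟩

theorem unique_GL {u u' h h' v v' : GL D.Idx F} {w w' : Q.X.M.Group}
    (hu : u ∈ D.posUnipotent F) (hu' : u' ∈ D.posUnipotent F) (hh : h ∈ D.diagonalSubgroup F)
    (hh' : h' ∈ D.diagonalSubgroup F) (hv : v ∈ Q.UwGL w) (hv' : v' ∈ Q.UwGL w')
    (e : u * h * Q.repGL w * v = u' * h' * Q.repGL w' * v') :
    w = w' ∧ u = u' ∧ h = h' ∧ v = v' := by
  obtain ⟨a, ha, rfl⟩ := hv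
  obtain ⟨a', ha', rfl⟩ := hv'
  have := Q.amb.unique (u := ⟨u, posUnipotent_le_group hu⟩) (u' := ⟨u', posUnipotent_le_group hu'⟩)
    (h := ⟨h, diagonal_le_group Q.ord hh⟩) (h' := ⟨h', diagonal_le_group Q.ord hh'⟩)
    (by rw [Q.amb_U]; exact hu) (by rw [Q.amb_U]; exact hu') hh hh' ha ha' (Subtype.ext e)
  obtain ⟨h1, h2, h3, h4⟩ := this
  exact ⟨h1, congrArg Subtype.val h2, congrArg Subtype.val h3, congrArg Subtype.val h4⟩

theorem repGL_inj {h h' : GL D.Idx F} {w w' : Q.X.M.Group} (hh : h ∈ D.diagonalSubgroup F)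
    (hh' : h' ∈ D.diagonalSubgroup F) (e : h * Q.repGL w = h' * Q.repGL w') : w = w' ∧ h = h' := by
  have := Q.unique_GL (one_mem _) (one_mem _) hh hh' (one_mem (Q.UwGL w)) (one_mem (Q.UwGL w'))
    (by simpa using e)
  exact ⟨this.1, this.2.2.1⟩

theorem repGL_conj_H (w : Q.X.M.Group) {h : GL D.Idx F} (hh : h ∈ D.diagonalSubgroup F) :
    Q.repGL w * h * (Q.repGL w)⁻¹ ∈ D.diagonalSubgroup F :=
  Q.sys.rep_conj_H w (h := ⟨h, diagonal_le_group Q.ord hh⟩) hh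

theorem x_conj {h : GL D.Idx F} (hh : h ∈ D.diagonalSubgroup F) (w : Q.X.M.Group) {r : ℕ}
    (hr : r < D.nroots) (t : F) : ∃ t',
      (h * Q.repGL w) * Q.K.xU F r t * (h * Q.repGL w)⁻¹
        = Q.K.xU F (Q.X.good.hom w ⟨r, hr⟩).val t' := by
  obtain ⟨t1, e⟩ := Q.sys.rep_conj w r hr t
  obtain ⟨t2, e2⟩ := Q.T.conj h hh (Q.X.good.hom w ⟨r, hr⟩).val (Fin.isLt _) t1
  refine ⟨t2, ?_⟩
  have e' : Q.repGL w * Q.K.xU F r t * (Q.repGL w)⁻¹
      = Q.K.xU F (Q.X.good.hom w ⟨r, hr⟩).val t1 := congrArg Subtype.val e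
  rw [← e2, ← e']
  group

theorem pos_inf_neg {g : GL D.Idx F} (h1 : g ∈ D.posUnipotent F) (h2 : g ∈ D.negUnipotent F) :
    g = 1 := by
  have a := posUnipotent_le_uni (F := F) Q.ord h1
  have b := negUnipotent_le_uni (F := F) Q.ord h2
  have a' : Raises (rk D) 1 ((g : Matrix D.Idx D.Idx F) - 1) := a
  have b' : Raises (rkRev D) 1 ((g : Matrix D.Idx D.Idx F) - 1) := b
  refine Units.ext ?_
  ext i j
  by_contra hne
  have h3 := a' i j (by simpa [sub_ne_zero] using hne)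
  have h4 := b' i j (by simpa [sub_ne_zero] using hne)
  have := rk_le (D := D) i
  have := rk_le (D := D) j
  simp only [rkRev] at h4
  omega

theorem cond_iff {n h : GL D.Idx F} {w : Q.X.M.Group} (hh : h ∈ D.diagonalSubgroup F)
    (e : n = h * Q.repGL w) {r : ℕ} :
    (D.IsPosRoot r ∧ (D.rootSubgroup F r).map (MulAut.conj n).toMonoidHom ≤ D.negUnipotent F)
      ↔ r ∈ Sys.flip Q.X.good w := by
  subst e
  constructor
  · rintro ⟨hp, hle⟩
    obtain ⟨hr, hr'⟩ := (Q.ord.isPosRoot_iff r).1 hp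
    refine Sys.mem_flip.2 ⟨hr, hr', ?_⟩
    by_contra hcon
    obtain ⟨t', e⟩ := Q.x_conj hh w hr 1
    have h1 : Q.K.xU F (Q.X.good.hom w ⟨r, hr⟩).val t' ∈ D.negUnipotent F :=
      e ▸ hle ⟨_, (Q.K.mem_rootSubgroup F).2 ⟨1, rfl⟩, rfl⟩
    have h2 : Q.K.xU F (Q.X.good.hom w ⟨r, hr⟩).val t' ∈ D.posUnipotent F :=
      Subgroup.subset_closure ⟨_, t', (Q.ord.isPosRoot_iff _).2 ⟨Fin.isLt _, by omega⟩, rfl⟩
    rw [Q.pos_inf_neg h2 h1] at e
    exact one_ne_zero ((Q.K.xU_eq_one_iff F hr 1).1 (conj_eq_one_iff.1 e))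
  · intro hr
    obtain ⟨h1, h2, h3⟩ := Sys.mem_flip.1 hr
    refine ⟨(Q.ord.isPosRoot_iff r).2 ⟨h1, h2⟩, ?_⟩
    rintro _ ⟨g, hg, rfl⟩
    obtain ⟨t, rfl⟩ := (Q.K.mem_rootSubgroup F).1 hg
    obtain ⟨t', e⟩ := Q.x_conj hh w h1 t
    show h * Q.repGL w * Q.K.xU F r t * (h * Q.repGL w)⁻¹ ∈ D.negUnipotent F
    rw [e]
    exact Subgroup.subset_closure ⟨_, t', (Q.ord.isNegRoot_iff _).2 h3, rfl⟩

theorem closure_eq_UwGL {n h : GL D.Idx F} {w : Q.X.M.Group} (hh : h ∈ D.diagonalSubgroup F)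
    (e : n = h * Q.repGL w) :
    Subgroup.closure {x : GL D.Idx F | ∃ (r : ℕ) (t : F), D.IsPosRoot r ∧
      (D.rootSubgroup F r).map (MulAut.conj n).toMonoidHom ≤ D.negUnipotent F ∧
      (x : Matrix D.Idx D.Idx F) = D.x F r t} = Q.UwGL w := by
  refine le_antisymm ((Subgroup.closure_le _).2 ?_) ?_
  · rintro x ⟨r, t, h1, h2, hx⟩
    exact ⟨xG Q.K F r t, x_mem_XS (Finset.mem_coe.2 ((Q.cond_iff hh e).1 ⟨h1, h2⟩)) t,
      Units.ext hx.symm⟩
  · rintro _ ⟨a, ha, rfl⟩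
    refine coe_mem_of_XS Q.K (fun r hr t => ?_) ha
    obtain ⟨h1, h2⟩ := (Q.cond_iff hh e).2 hr
    exact Subgroup.subset_closure ⟨r, t, h1, h2, rfl⟩

theorem bruhat :
    (∀ g ∈ D.group F, ∃ b ∈ D.borelSubgroup F, ∃ n ∈ D.monomialSubgroup F,
      ∃ u ∈ Subgroup.closure {x : GL D.Idx F | ∃ (r : ℕ) (t : F), D.IsPosRoot r ∧
            (D.rootSubgroup F r).map (MulAut.conj n).toMonoidHom ≤ D.negUnipotent F ∧ (x : Matrix D.Idx D.Idx F) = D.x F r t},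
        g = b * n * u) ∧
    (∀ (b b' n n' u u' : GL D.Idx F), b ∈ D.borelSubgroup F → b' ∈ D.borelSubgroup F →
      n ∈ D.monomialSubgroup F → n' ∈ D.monomialSubgroup F →
      u ∈ Subgroup.closure {x : GL D.Idx F | ∃ (r : ℕ) (t : F), D.IsPosRoot r ∧
            (D.rootSubgroup F r).map (MulAut.conj n).toMonoidHom ≤ D.negUnipotent F ∧ (x : Matrix D.Idx D.Idx F) = D.x F r t} →
      u' ∈ Subgroup.closure {x : GL D.Idx F | ∃ (r : ℕ) (t : F), D.IsPosRoot r ∧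
            (D.rootSubgroup F r).map (MulAut.conj n').toMonoidHom ≤ D.negUnipotent F ∧ (x : Matrix D.Idx D.Idx F) = D.x F r t} →
      b * n * u = b' * n' * u' → n⁻¹ * n' ∈ D.diagonalSubgroup F ∧ (n = n' → b = b' ∧ u = u')) := by
  refine ⟨fun g hg => ?_, ?_⟩
  · obtain ⟨u, hu, h, hh, w, v, hv, e⟩ := Q.mem_group_exists hg
    refine ⟨u * h, mul_mem (Subgroup.mem_sup_left hu) (Subgroup.mem_sup_right hh), _,
      Q.rep_mem_monomial w, v, ?_, e⟩
    exact (Q.closure_eq_UwGL (w := w) (one_mem _) (one_mul _).symm) ▸ hv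
  · intro b b' n n' v v' hb hb' hn hn' hv hv' e
    obtain ⟨h, hh, w, rfl⟩ := Q.mem_mono_iff.1 hn
    obtain ⟨h', hh', w', rfl⟩ := Q.mem_mono_iff.1 hn'
    rw [Q.closure_eq_UwGL hh rfl] at hv
    rw [Q.closure_eq_UwGL hh' rfl] at hv'
    have hB : ∀ b ∈ D.borelSubgroup F, ∃ u ∈ D.posUnipotent F, ∃ k ∈ D.diagonalSubgroup F,
        b = u * k := by
      intro b hb
      have : (⟨b, borel_le_group Q.ord hb⟩ : ↥(D.group F)) ∈ Q.amb.B := by rw [Q.amb_B]; exact hb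
      obtain ⟨u, hu, k, hk, e⟩ := this
      rw [Q.amb_U] at hu
      exact ⟨u, hu, k, hk, congrArg Subtype.val e⟩
    obtain ⟨u, hu, k, hk, rfl⟩ := hB b hb
    obtain ⟨u', hu', k', hk', rfl⟩ := hB b' hb'
    obtain ⟨rfl, rfl, hkh, rfl⟩ := Q.unique_GL hu hu' (mul_mem hk hh) (mul_mem hk' hh') hv hv'
      (by simpa only [mul_assoc] using e)
    refine ⟨?_, fun hne => ?_⟩
    · have := Q.repGL_conj_H w⁻¹ (mul_mem (inv_mem hh) hh')
      obtain ⟨c, hc, ec⟩ := Q.sys.rep_inv w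
      have ec' : (Q.repGL w)⁻¹ = (c : GL D.Idx F) * Q.repGL w⁻¹ := congrArg Subtype.val ec
      rw [show (h * Q.repGL w)⁻¹ * (h' * Q.repGL w)
        = (Q.repGL w)⁻¹ * (h⁻¹ * h') * (Q.repGL w)⁻¹⁻¹ by group, ec', mul_inv_rev,
        show (c : GL D.Idx F) * Q.repGL w⁻¹ * (h⁻¹ * h') * ((Q.repGL w⁻¹)⁻¹ * (c : GL D.Idx F)⁻¹)
        = c * (Q.repGL w⁻¹ * (h⁻¹ * h') * (Q.repGL w⁻¹)⁻¹) * (c : GL D.Idx F)⁻¹ by group]
      exact mul_mem (mul_mem hc this) (inv_mem hc)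
    · obtain rfl : h = h' := mul_right_cancel hne
      obtain rfl : k = k' := mul_right_cancel hkh
      exact ⟨rfl, rfl⟩

theorem exists_hom : ∃ φ : ↥(D.monomialSubgroup F) →* Q.X.M.Group, Function.Surjective φ ∧
    φ.ker = (D.diagonalSubgroup F).subgroupOf (D.monomialSubgroup F) ∧
    ∀ (i : Fin Q.X.n) (g : ↥(D.monomialSubgroup F)),
      ((g : GL D.Idx F) : Matrix D.Idx D.Idx F) = D.nMat F (D.simple i) 1 →
        φ g = Q.X.M.simple i := by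
  choose hf hhf wf hwf using fun g : ↥(D.monomialSubgroup F) => Q.mem_mono_iff.1 g.2
  have huniq : ∀ (g : ↥(D.monomialSubgroup F)) (h : GL D.Idx F) (w : Q.X.M.Group),
      h ∈ D.diagonalSubgroup F → (g : GL D.Idx F) = h * Q.repGL w → wf g = w := fun g h w hh e =>
    (Q.repGL_inj (hhf g) hh ((hwf g).symm.trans e)).1
  have hrep1 : Q.repGL 1 = 1 := by simp [repGL, Q.sys.rep_one]
  refine ⟨MonoidHom.mk' wf (fun a b => ?_), ?_, ?_, ?_⟩
  · obtain ⟨k, hk, e⟩ := Q.sys.rep_mul (wf a) (wf b)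
    have e' : Q.repGL (wf a) * Q.repGL (wf b) = (k : GL D.Idx F) * Q.repGL (wf a * wf b) :=
      congrArg Subtype.val e
    refine huniq _ (hf a * (Q.repGL (wf a) * hf b * (Q.repGL (wf a))⁻¹) * k) _
      (mul_mem (mul_mem (hhf a) (Q.repGL_conj_H _ (hhf b))) hk) ?_
    rw [Subgroup.coe_mul, hwf a, hwf b]
    calc hf a * Q.repGL (wf a) * (hf b * Q.repGL (wf b))
        = hf a * (Q.repGL (wf a) * hf b * (Q.repGL (wf a))⁻¹) *
            (Q.repGL (wf a) * Q.repGL (wf b)) := by group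
      _ = _ := by rw [e']; group
  · intro w
    exact ⟨⟨Q.repGL w, Q.rep_mem_monomial w⟩, huniq _ 1 w (one_mem _) (one_mul _).symm⟩
  · ext g
    rw [MonoidHom.mem_ker, Subgroup.mem_subgroupOf, MonoidHom.mk'_apply]
    constructor
    · intro hg
      rw [hwf g, hg, hrep1, mul_one]
      exact hhf g
    · intro hg
      exact huniq g g 1 hg (by rw [hrep1, mul_one])
  · intro i g hg
    refine huniq g 1 _ (one_mem _) ?_
    rw [one_mul, repGL, Q.rep_simple]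
    exact Units.ext (hg.trans (Q.K.coe_nU F _ _).symm)

theorem fusion (h₁ h₂ g : GL D.Idx F) (h1 : h₁ ∈ D.diagonalSubgroup F)
    (h2 : h₂ ∈ D.diagonalSubgroup F) (hg : g ∈ D.group F) (hc : g * h₁ * g⁻¹ = h₂) :
    ∃ n ∈ D.monomialSubgroup F, n * h₁ * n⁻¹ = h₂ := by
  obtain ⟨u, hu, h, hh, w, v, hv, rfl⟩ := Q.mem_group_exists hg
  have hU : ∀ k ∈ D.diagonalSubgroup F, ∀ a ∈ D.posUnipotent F,
      k * a * k⁻¹ ∈ D.posUnipotent F := by
    intro k hk a ha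
    have ha' : (⟨a, posUnipotent_le_group ha⟩ : ↥(D.group F)) ∈ Q.amb.U := by
      rw [Q.amb_U]; exact ha
    have := Q.amb.H_conj_U ⟨k, diagonal_le_group Q.ord hk⟩ hk _ ha'
    rw [Q.amb_U] at this
    exact this
  have hv' : h₁⁻¹ * v * h₁ ∈ Q.UwGL w := by
    obtain ⟨a, ha, rfl⟩ := hv
    have hk : (⟨h₁⁻¹, diagonal_le_group Q.ord (inv_mem h1)⟩ : ↥(D.group F)) ∈ Q.sys.H := inv_mem h1
    refine ⟨⟨h₁⁻¹, diagonal_le_group Q.ord (inv_mem h1)⟩ * a *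
      ⟨h₁⁻¹, diagonal_le_group Q.ord (inv_mem h1)⟩⁻¹, conj_mem_XS (fun r hr t => ?_) ha, by simp⟩
    obtain ⟨t', e⟩ := Q.sys.h_conj _ hk r (Sys.mem_flip.1 hr).1 t
    rw [e]
    exact x_mem_XS hr t'
  set nw := Q.repGL w
  have e : u * (h * (nw * h₁ * nw⁻¹)) * nw * (h₁⁻¹ * v * h₁)
      = h₂ * u * h₂⁻¹ * (h₂ * h) * nw * v := by
    rw [← hc]; group
  have := Q.unique_GL hu (hU h₂ h2 u hu) (mul_mem hh (Q.repGL_conj_H w h1)) (mul_mem h2 hh)
    hv' hv e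
  refine ⟨h * nw, mul_mem (Subgroup.mem_sup_left hh) (Q.rep_mem_monomial w), ?_⟩
  rw [show h * nw * h₁ * (h * nw)⁻¹ = h * (nw * h₁ * nw⁻¹) * h⁻¹ by group, this.2.2.1,
    mul_inv_cancel_right]

theorem exists_parabolic_one {i : ℕ} (hi : i < D.rank) (n : GL D.Idx F)
    (hn : (n : Matrix D.Idx D.Idx F) = D.nMat F (D.simple i) 1) :
    ∃ P : Subgroup (GL D.Idx F), (P : Set (GL D.Idx F)) =
      (D.borelSubgroup F : Set (GL D.Idx F)) ∪
        DoubleCoset.doubleCoset n (D.borelSubgroup F : Set (GL D.Idx F)) (D.borelSubgroup F) := by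
  have hnm : n ∈ D.monomialSubgroup F := by
    rw [show n = Q.K.nS F i from Units.ext (hn.trans (Q.K.coe_nU F _ _).symm)]
    exact Q.nS_mem_monomial hi
  set s : ↥(D.group F) := ⟨n, monomial_le_group Q.ord hnm⟩
  set P := Q.amb.pair
  have hs : s ∈ P.S := by
    show s ∈ Q.amb.n '' Q.amb.S
    rw [Q.amb_S]
    exact ⟨i, hi, hn⟩
  have hB : ∀ x : ↥(D.group F), x ∈ P.B ↔ (x : GL D.Idx F) ∈ D.borelSubgroup F := fun x => by
    rw [Q.amb.pair_B, Q.amb_B, Subgroup.mem_subgroupOf]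
  refine ⟨(P.parabolic {s}).map (D.group F).subtype, ?_⟩
  ext g
  constructor
  · rintro ⟨x, hx, rfl⟩
    rcases mem_parabolic_one P hs hx with h | ⟨b, hb, c, hc, rfl⟩
    · exact Or.inl ((hB x).1 h)
    · exact Or.inr (DoubleCoset.mem_doubleCoset.2 ⟨b, (hB b).1 hb, c, (hB c).1 hc, rfl⟩)
  · rintro (hg | hg)
    · exact ⟨⟨g, borel_le_group Q.ord hg⟩,
        H27.BN.B_le_parabolic P _ ((hB _).2 hg), rfl⟩
    · obtain ⟨b, hb, c, hc, rfl⟩ := DoubleCoset.mem_doubleCoset.1 hg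
      refine ⟨⟨b, borel_le_group Q.ord hb⟩ * s * ⟨c, borel_le_group Q.ord hc⟩, ?_, by
        rw [Subgroup.coe_subtype, Subgroup.coe_mul, Subgroup.coe_mul]⟩
      exact mul_mem (mul_mem (H27.BN.B_le_parabolic P _ ((hB _).2 hb))
        (H27.BN.subset_parabolic P rfl)) (H27.BN.B_le_parabolic P _ ((hB _).2 hc))

end Cfsg.Agent.H37.Chev.Data
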