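import Cfsg.Agent.H37.Chev.Support
import Cfsg.Agent.H37.Chev.GLForm

/-!
Parabolic subgroups: generators, unipotent radical and Levi factor, normaliser of the radical.
-/
set_option autoImplicit false

namespace Cfsg.Agent.H37.Chev.Data

open scoped Classical

open Cfsg.Lie Cfsg.Agent.H37.RootSys

variable {D : ChevalleyDatum} {F : Type*} [Field F] (Q : Data D F)
include Q

theorem xU_mem_pos {r : ℕ} (hr : r < D.nroots) (hp : D.nroots / 2 ≤ r) (t : F) :
    Q.K.xU F r t ∈ D.posUnipotent F :=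
  Subgroup.subset_closure ⟨r, t, (Q.ord.isPosRoot_iff r).2 ⟨hr, hp⟩, rfl⟩

theorem diag_conj_closure (p : ℕ → Prop) {h g : GL D.Idx F} (hh : h ∈ D.diagonalSubgroup F)
    (hg : g ∈ Subgroup.closure {g : GL D.Idx F | ∃ (r : ℕ) (t : F), p r ∧ r < D.nroots ∧
      g = Q.K.xU F r t}) :
    h * g * h⁻¹ ∈ Subgroup.closure {g : GL D.Idx F | ∃ (r : ℕ) (t : F), p r ∧ r < D.nroots ∧
      g = Q.K.xU F r t} := by
  set S := {g : GL D.Idx F | ∃ (r : ℕ) (t : F), p r ∧ r < D.nroots ∧ g = Q.K.xU F r t}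
  have hle : Subgroup.closure S ≤ (Subgroup.closure S).comap (MulAut.conj h).toMonoidHom := by
    refine (Subgroup.closure_le _).2 ?_
    rintro _ ⟨r, t, hp, hr, rfl⟩
    obtain ⟨t', e⟩ := Q.T.conj h hh r hr t
    exact Subgroup.subset_closure ⟨r, t', hp, hr, e⟩
  exact hle hg

variable (hS : Sup Q.X.C D Q.X.n) {J : Set ℕ}
include hS

/-- The root subgroups of the Levi subsystem lie in the parabolic subgroup. -/
theorem levi_mem_parabolic : ∀ r, r < D.nroots → D.nroots / 2 ≤ r → D.InRootSub J r →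
    ∀ t, Q.K.xU F (D.neg r) t ∈ D.parabolicSubgroup F J := by
  intro r
  induction r using Nat.strong_induction_on with
  | _ r ih =>
    intro hr hp hJ t
    have hn : ∀ i, i < Q.X.n → i ∈ J → Q.K.nS F i ∈ D.parabolicSubgroup F J := fun i hi hiJ =>
      Subgroup.mem_sup_right (Subgroup.subset_closure
        ⟨i, hiJ, Q.rank_eq.symm ▸ hi, Q.K.coe_nU F _ _⟩)
    have key : ∀ i, i < Q.X.n → i ∈ J → ∀ s, s < D.nroots →
        (∀ u, Q.K.xU F s u ∈ D.parabolicSubgroup F J) →
        ∀ u, Q.K.xU F (Q.K.w i s) u ∈ D.parabolicSubgroup F J := by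
      intro i hi hiJ s hs h u
      have hi' : i < D.rank := Q.rank_eq.symm ▸ hi
      have e : Q.K.xU F (Q.K.w i s) u
          = Q.K.nS F i * Q.K.xU F s ((Q.K.sg i s : F) * u) * (Q.K.nS F i)⁻¹ := by
        rw [Q.K.nS_conj_xU F hi' hs]
        rcases Q.K.sg_pm i s with h1 | h1 <;> simp [h1]
      rw [e]
      exact mul_mem (mul_mem (hn i hi hiJ) (h _)) (inv_mem (hn i hi hiJ))
    rcases descend Q.X.good Q.K hS hJ hp with ⟨i, hi, hiJ, rfl⟩ | ⟨i, hi, hiJ, h1, h2, h3⟩
    · rw [← neg_simple_eq Q.X.good Q.K hi, sigma_eq_w Q.X.good Q.K hi hr]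
      exact key i hi hiJ _ hr (fun u => Subgroup.mem_sup_left (Subgroup.mem_sup_left
        (Q.xU_mem_pos hr hp u))) t
    · have hi' : i < D.rank := Q.rank_eq.symm ▸ hi
      have e : Q.K.w i (D.neg (Q.X.C.sigma i r)) = D.neg r := by
        rw [sigma_eq_w Q.X.good Q.K hi hr, Q.K.w_neg hi' (Q.K.w_lt i hi' r hr).1,
          (Q.K.w_lt i hi' r hr).2]
      rw [← e]
      exact key i hi hiJ _ (Q.K.neg_lt h3.1) (ih _ h1 h3.1 h2 h3) t

theorem simple_inRootSub {j : ℕ} (hj : j < D.rank) (hJ : j ∈ J) :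
    D.InRootSub J (D.simple j) :=
  (inRootSub_iff Q.X.good Q.K hS).2 ⟨(Q.K.simple_lt j hj).1, fun m hm hmJ => by
    rw [Q.K.cf_simple j hj m hm, if_neg (fun e => hmJ (by rw [e]; exact hJ))]⟩

theorem parabolic_eq : D.parabolicSubgroup F J = D.diagonalSubgroup F ⊔
    Subgroup.closure {g : GL D.Idx F | ∃ (r : ℕ) (t : F), (D.IsPosRoot r ∨ D.InRootSub J r) ∧
      (g : Matrix D.Idx D.Idx F) = D.x F r t} := by
  refine le_antisymm ?_ ?_
  · refine sup_le (sup_le (le_trans ((Subgroup.closure_le _).2 ?_) le_sup_right) le_sup_left)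
      ((Subgroup.closure_le _).2 ?_)
    · rintro g ⟨r, t, hr, hg⟩
      exact Subgroup.subset_closure ⟨r, t, Or.inl hr, hg⟩
    · rintro g ⟨j, hjJ, hj, hg⟩
      have hs := Q.simple_inRootSub hS hj hjJ
      have hns := inRootSub_neg Q.X.good Q.K hS hs
      rw [show g = Q.K.nU F (D.simple j) 1 from Units.ext (hg.trans (Q.K.coe_nU F _ _).symm),
        Q.K.nU_eq]
      exact Subgroup.mem_sup_right (mul_mem (mul_mem
        (Subgroup.subset_closure ⟨_, _, Or.inr hs, rfl⟩)
        (Subgroup.subset_closure ⟨_, _, Or.inr hns, rfl⟩))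
        (Subgroup.subset_closure ⟨_, _, Or.inr hs, rfl⟩))
  · refine sup_le (le_trans le_sup_right le_sup_left) ((Subgroup.closure_le _).2 ?_)
    rintro g ⟨r, t, hr, hg⟩
    obtain rfl : g = Q.K.xU F r t := Units.ext hg
    by_cases hp : D.IsPosRoot r
    · exact Subgroup.mem_sup_left (Subgroup.mem_sup_left (Subgroup.subset_closure ⟨r, t, hp, hg⟩))
    · have hJ := hr.resolve_left hp
      have hlt : r < D.nroots / 2 := by
        by_contra h
        exact hp ((Q.ord.isPosRoot_iff r).2 ⟨hJ.1, by omega⟩)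
      have := Q.levi_mem_parabolic hS (D.neg r) (Q.K.neg_lt hJ.1)
        (by rw [Q.K.neg_eq r hJ.1]; have := Q.ord.even; omega) (inRootSub_neg Q.X.good Q.K hS hJ) t
      rwa [Q.K.neg_neg hJ.1] at this

theorem radical_eq : D.unipotentRadical F J = Subgroup.closure {g : GL D.Idx F | ∃ (r : ℕ) (t : F),
    (D.IsPosRoot r ∧ ¬ D.InRootSub J r) ∧ r < D.nroots ∧ g = Q.K.xU F r t} := by
  unfold ChevalleyDatum.unipotentRadical
  refine congrArg Subgroup.closure (Set.ext fun g => ⟨?_, ?_⟩)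
  · rintro ⟨r, t, h1, h2, h3⟩
    exact ⟨r, t, ⟨h1, h2⟩, h1.1, Units.ext h3⟩
  · rintro ⟨r, t, ⟨h1, h2⟩, -, rfl⟩
    exact ⟨r, t, h1, h2, rfl⟩

/-- The parabolic subgroup normalises the radical. -/
theorem parabolic_le_normalizer : D.parabolicSubgroup F J ≤
    Subgroup.normalizer (D.unipotentRadical F J : Set (GL D.Idx F)) := by
  set U := D.unipotentRadical F J with hU
  have hgen : ∀ (a : GL D.Idx F), (∀ r t, D.IsPosRoot r → ¬ D.InRootSub J r →
      a * Q.K.xU F r t * a⁻¹ ∈ U) → ∀ g ∈ U, a * g * a⁻¹ ∈ U := by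
    intro a h g hg
    have hle : U ≤ U.comap (MulAut.conj a).toMonoidHom := by
      refine (Subgroup.closure_le _).2 ?_
      rintro g ⟨r, t, h1, h2, h3⟩
      obtain rfl : g = Q.K.xU F r t := Units.ext h3
      exact h r t h1 h2
    exact hle hg
  have hnorm : ∀ (a : GL D.Idx F), (∀ g ∈ U, a * g * a⁻¹ ∈ U) → (∀ g ∈ U, a⁻¹ * g * a ∈ U) →
      a ∈ Subgroup.normalizer (U : Set (GL D.Idx F)) := by
    intro a h1 h2
    rw [Subgroup.mem_normalizer_iff]
    refine fun g => ⟨fun hg => h1 g hg, fun hg => ?_⟩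
    simpa [mul_assoc] using h2 _ hg
  rw [Q.parabolic_eq hS]
  refine sup_le (fun h hh => ?_) ((Subgroup.closure_le _).2 ?_)
  · have key : ∀ k ∈ D.diagonalSubgroup F, ∀ g ∈ U, k * g * k⁻¹ ∈ U := by
      intro k hk g hg
      rw [hU, Q.radical_eq hS] at hg ⊢
      exact Q.diag_conj_closure _ hk hg
    exact hnorm h (key h hh) fun g hg => by simpa using key h⁻¹ (inv_mem hh) g hg
  · rintro g ⟨r, t, hr, hg⟩
    obtain rfl : g = Q.K.xU F r t := Units.ext hg
    have hrlt : r < D.nroots := hr.elim (fun h => h.1) (fun h => h.1)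
    have key : ∀ t : F, ∀ g ∈ U, Q.K.xU F r t * g * (Q.K.xU F r t)⁻¹ ∈ U := by
      intro t
      refine hgen _ fun s u h1 h2 => ?_
      by_cases hsr : r = s
      · subst hsr
        rw [Q.K.xU_add, add_comm t u, ← Q.K.xU_add, mul_inv_cancel_right]
        exact Subgroup.subset_closure ⟨r, u, h1, h2, rfl⟩
      have hns : r ≠ D.neg s := by
        intro e
        rcases hr with hp | hJ
        · have a := (Q.ord.isPosRoot_iff r).1 hp
          have b := (Q.ord.isPosRoot_iff s).1 h1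
          rw [Q.K.neg_eq s h1.1] at e
          omega
        · exact h2 (by simpa [e, Q.K.neg_neg h1.1] using inRootSub_neg Q.X.good Q.K hS hJ)
      have hne : s ≠ D.neg r := fun e => hns (by rw [e, Q.K.neg_neg hrlt])
      have := Q.K.xU_conj F hrlt h1.1 (Ne.symm hsr) hne (-t) u
      rw [← Q.K.xU_inv, inv_inv] at this
      rw [this]
      refine mul_mem (Subgroup.subset_closure ⟨s, u, h1, h2, rfl⟩) (Q.K.wU_mem F ?_)
      intro p hp
      simp only [ChevalleyDatum.commWord, List.mem_map] at hp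
      obtain ⟨c, hc, rfl⟩ := hp
      obtain ⟨⟨hk, ha, hb⟩, hcf⟩ := Q.K.commTerms_cf hc
      obtain ⟨m, hm, hmJ, hm0⟩ : ∃ m, m < D.rank ∧ m ∉ J ∧ Q.K.cf s m ≠ 0 := by
        by_contra hcon
        simp only [not_exists, not_and, not_not] at hcon
        exact h2 ((inRootSub_iff Q.X.good Q.K hS).2 ⟨h1.1, hcon⟩)
      have hs0 := (support Q.X.good Q.K hS s h1.1 ((Q.ord.isPosRoot_iff s).1 h1).2 m hm).1
      have hr0 : 0 ≤ Q.K.cf r m := by
        rcases hr with hp | hJ
        · exact (support Q.X.good Q.K hS r hrlt ((Q.ord.isPosRoot_iff r).1 hp).2 m hm).1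
        · rw [((inRootSub_iff Q.X.good Q.K hS).1 hJ).2 m hm hmJ]
      have hkm : 0 < Q.K.cf c.1 m := by
        rw [hcf m hm]
        have : (0 : ℤ) < c.2.2.2 := by exact_mod_cast hb
        have : (0 : ℤ) < Q.K.cf s m := lt_of_le_of_ne hs0 (Ne.symm hm0)
        positivity
      have hkpos : D.IsPosRoot c.1 := by
        refine (Q.ord.isPosRoot_iff _).2 ⟨hk, ?_⟩
        by_contra hcon
        have := (support Q.X.good Q.K hS (D.neg c.1) (Q.K.neg_lt hk)
          (by rw [Q.K.neg_eq _ hk]; have := Q.ord.even; omega) m hm).1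
        rw [Q.K.cf_neg _ hk m hm] at this
        omega
      refine Subgroup.subset_closure ⟨c.1, _, hkpos, fun hJ => ?_, rfl⟩
      rw [((inRootSub_iff Q.X.good Q.K hS).1 hJ).2 m hm hmJ] at hkm
      exact lt_irrefl _ hkm
    refine hnorm _ (key t) fun g hg => ?_
    have := key (-t) g hg
    rwa [← Q.K.xU_inv, inv_inv] at this

theorem radical_sup_levi :
    D.unipotentRadical F J ⊔ D.leviSubgroup F J = D.parabolicSubgroup F J := by
  rw [Q.parabolic_eq hS]
  refine le_antisymm (sup_le ?_ (sup_le le_sup_left ?_))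
    (sup_le (le_trans le_sup_left le_sup_right) ((Subgroup.closure_le _).2 ?_))
  · refine le_trans ((Subgroup.closure_le _).2 ?_) le_sup_right
    rintro g ⟨r, t, h1, h2, h3⟩
    exact Subgroup.subset_closure ⟨r, t, Or.inl h1, h3⟩
  · refine le_trans ((Subgroup.closure_le _).2 ?_) le_sup_right
    rintro g ⟨r, t, h1, h3⟩
    exact Subgroup.subset_closure ⟨r, t, Or.inr h1, h3⟩
  · rintro g ⟨r, t, h1, h3⟩
    by_cases hJ : D.InRootSub J r
    · exact Subgroup.mem_sup_right (Subgroup.mem_sup_right (Subgroup.subset_closure ⟨r, t, hJ, h3⟩))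
    · exact Subgroup.mem_sup_left
        (Subgroup.subset_closure ⟨r, t, h1.resolve_right hJ, hJ, h3⟩)

open Classical in
/-- The `J`-height of a coordinate. -/
noncomputable def deg (J : Set ℕ) (a : D.Idx) : ℤ :=
  ∑ m ∈ (Finset.range D.rank).filter (fun m => m ∉ J), Q.K.cfI a m

theorem x_deg {r : ℕ} (hr : r < D.nroots) (t : F) {a b : D.Idx}
    (h : (D.x F r t - 1) a b ≠ 0) : ∃ k : ℕ, 0 < k ∧ Q.deg J a = k * Q.deg J (.inr ⟨r, hr⟩) + Q.deg J b := by
  rw [Q.K.x_eq hr, Matrix.sub_apply] at h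
  have h1 : (1 : Matrix D.Idx D.Idx F) a b = (Chevalley.aMat D r 0 a b : F) := by
    rw [Q.K.aMat_zero, Matrix.one_apply, Matrix.one_apply]; split_ifs <;> simp
  rw [h1] at h
  simp only [Chevalley.xR, Matrix.of_apply] at h
  rw [Finset.sum_range_succ' _ 3, pow_zero, mul_one, add_sub_cancel_right] at h
  obtain ⟨k, -, hk⟩ := Finset.exists_ne_zero_of_sum_ne_zero h
  refine ⟨k + 1, Nat.succ_pos _, ?_⟩
  have hne : Chevalley.aMat D r (k + 1) a b ≠ 0 := fun e => hk (by simp [e])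
  unfold deg
  rw [Finset.mul_sum, ← Finset.sum_add_distrib]
  refine Finset.sum_congr rfl fun m hm => ?_
  rw [Q.K.aMat_homog hr (k + 1) a b hne m (Finset.mem_range.1 (Finset.mem_filter.1 hm).1)]
  rfl

theorem radical_inf_levi : D.unipotentRadical F J ⊓ D.leviSubgroup F J = ⊥ := by
  classical
  obtain ⟨B, hB⟩ : ∃ B : ℕ, ∀ a, (Q.deg J a).natAbs ≤ B :=
    ⟨Finset.univ.sup fun a => (Q.deg J a).natAbs,
      fun a => Finset.le_sup (f := fun a => (Q.deg J a).natAbs) (Finset.mem_univ a)⟩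
  set rkJ : D.Idx → ℕ := fun a => (Q.deg J a + B).toNat with hrk
  have hN : ∀ a, rkJ a < 2 * B + 1 := fun a => by have := hB a; simp only [hrk]; omega
  have hU : D.unipotentRadical F J ≤ uniGroup F rkJ (2 * B + 1) hN 0 := by
    refine (Subgroup.closure_le _).2 ?_
    rintro g ⟨r, t, h1, h2, h3⟩
    show Raises rkJ 1 _
    intro a b hab
    rw [h3] at hab
    obtain ⟨k, hk, e⟩ := Q.x_deg hS (J := J) h1.1 t hab
    have hpos : 0 < Q.deg J (.inr ⟨r, h1.1⟩) := by
      obtain ⟨m, hm, hmJ, hm0⟩ : ∃ m, m < D.rank ∧ m ∉ J ∧ Q.K.cf r m ≠ 0 := by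
        by_contra hcon
        simp only [not_exists, not_and, not_not] at hcon
        exact h2 ((inRootSub_iff Q.X.good Q.K hS).2 ⟨h1.1, hcon⟩)
      have hnn : ∀ j, j < D.rank → 0 ≤ Q.K.cf r j := fun j hj =>
        (support Q.X.good Q.K hS r h1.1 ((Q.ord.isPosRoot_iff r).1 h1).2 j hj).1
      refine Finset.sum_pos' (fun j hj => hnn j (Finset.mem_range.1 (Finset.mem_filter.1 hj).1))
        ⟨m, by simp [hm, hmJ], lt_of_le_of_ne (hnn m hm) (Ne.symm hm0)⟩
    have := hB a; have := hB b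
    have : Q.deg J b + 1 ≤ Q.deg J a := by nlinarith
    simp only [hrk]; omega
  let L : Subgroup (GL D.Idx F) :=
    { carrier := {g | ∀ φ : ℤ → F, Commute (g : Matrix D.Idx D.Idx F)
        (Matrix.diagonal fun a => φ (Q.deg J a))}
      one_mem' := fun φ => Commute.one_left _
      mul_mem' := fun {g h} hg hh φ => by rw [Units.val_mul]; exact (hg φ).mul_left (hh φ)
      inv_mem' := fun {g} hg φ => (hg φ).units_inv_left }
  have hmem : ∀ g : GL D.Idx F, (∀ a b, Q.deg J a ≠ Q.deg J b →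
      (g : Matrix D.Idx D.Idx F) a b = 0) → g ∈ L := by
    intro g hg φ
    show _ = _
    ext a b
    rw [Matrix.mul_diagonal, Matrix.diagonal_mul]
    by_cases hab : Q.deg J a = Q.deg J b
    · rw [hab, mul_comm]
    · rw [hg a b hab, zero_mul, mul_zero]
  have hL : D.leviSubgroup F J ≤ L := by
    refine sup_le (fun h hh => hmem h fun a b hab => Q.T.off h hh a b fun e => hab (e ▸ rfl))
      ((Subgroup.closure_le _).2 ?_)
    rintro g ⟨r, t, h1, h3⟩
    refine hmem g fun a b hab => ?_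
    by_contra hne
    have hne' : (D.x F r t - 1) a b ≠ 0 := by
      rw [Matrix.sub_apply, Matrix.one_apply_ne (fun e => hab (by rw [e])), sub_zero, ← h3]
      exact hne
    obtain ⟨k, -, e⟩ := Q.x_deg hS (J := J) h1.1 t hne'
    have hz : Q.deg J (.inr ⟨r, h1.1⟩) = 0 := by
      unfold deg
      refine Finset.sum_eq_zero fun m hm => ?_
      obtain ⟨hm1, hm2⟩ := Finset.mem_filter.1 hm
      exact ((inRootSub_iff Q.X.good Q.K hS).1 h1).2 m (Finset.mem_range.1 hm1) hm2
    rw [hz, mul_zero, zero_add] at e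
    exact hab e
  rw [eq_bot_iff]
  rintro g ⟨hgU, hgL⟩
  have h1 : Raises rkJ 1 ((g : Matrix D.Idx D.Idx F) - 1) := hU hgU
  refine Subgroup.mem_bot.2 (Units.ext ?_)
  ext a b
  rw [Units.val_one]
  by_contra hne
  have h2 := h1 a b (by rw [Matrix.sub_apply]; exact sub_ne_zero.2 hne)
  have hdeg : Q.deg J a ≠ Q.deg J b := by
    intro e; simp only [hrk, e] at h2; omega
  have h3 := hL hgL fun z => if z = Q.deg J a then 1 else 0
  have h4 := congrFun (congrFun h3.eq a) b
  simp only [Matrix.mul_diagonal, Matrix.diagonal_mul, if_neg (Ne.symm hdeg), if_pos, mul_zero,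
    one_mul] at h4
  exact hne (by rw [← h4, Matrix.one_apply_ne fun e => hdeg (by rw [e])])

theorem radical_le_pos : D.unipotentRadical F J ≤ D.posUnipotent F :=
  (Subgroup.closure_le _).2 fun _ ⟨r, t, h1, _, h3⟩ => Subgroup.subset_closure ⟨r, t, h1, h3⟩

theorem radical_normalizer (hJ : ∀ j ∈ J, j < D.rank) :
    Subgroup.normalizer (D.unipotentRadical F J : Set (GL D.Idx F)) ⊓ D.group F
      = D.parabolicSubgroup F J := by
  have hPG : D.parabolicSubgroup F J ≤ D.group F := by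
    refine sup_le (borel_le_group Q.ord) ((Subgroup.closure_le _).2 ?_)
    rintro g ⟨j, -, hj, hg⟩
    rw [show g = Q.K.nS F j from Units.ext (hg.trans (Q.K.coe_nU F _ _).symm)]
    exact (nG Q.K F j).2
  refine le_antisymm ?_ (le_inf (Q.parabolic_le_normalizer hS) hPG)
  rintro g ⟨hg, hgG⟩
  set P := Q.amb.pair
  set M := (Subgroup.normalizer (D.unipotentRadical F J : Set (GL D.Idx F))).subgroupOf (D.group F)
  have hBM : P.B ≤ M := by
    rw [Q.amb.pair_B, Q.amb_B]
    intro x hx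
    rw [Subgroup.mem_subgroupOf] at hx ⊢
    exact Q.parabolic_le_normalizer hS (Subgroup.mem_sup_left hx)
  have hM := H27.BN.eq_parabolic_of_le P M hBM
  have hle : P.parabolic (P.S ∩ M) ≤ (D.parabolicSubgroup F J).subgroupOf (D.group F) := by
    refine H27.BN.parabolic_le P ?_ ?_
    · rw [Q.amb.pair_B, Q.amb_B]
      intro x hx
      rw [Subgroup.mem_subgroupOf] at hx ⊢
      exact Subgroup.mem_sup_left hx
    rintro x ⟨hxS, hxM⟩
    have hxS' : x ∈ Q.amb.n '' Q.amb.S := hxS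
    rw [Q.amb_S] at hxS'
    obtain ⟨i, hi, hx⟩ := hxS'
    refine Subgroup.mem_subgroupOf.2 (Subgroup.mem_sup_right (Subgroup.subset_closure ⟨i, ?_, hi, hx⟩))
    by_contra hiJ
    have hin : i < Q.X.n := Q.rank_eq ▸ hi
    have hx' : (x : GL D.Idx F) = Q.K.nS F i := Units.ext (hx.trans (Q.K.coe_nU F _ _).symm)
    obtain ⟨hs1, hs2⟩ := Q.K.simple_lt i hi
    have hnot : ¬ D.InRootSub J (D.simple i) := fun h => by
      have := ((inRootSub_iff Q.X.good Q.K hS).1 h).2 i hi hiJ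
      rw [Q.K.cf_simple i hi i hi, if_pos rfl] at this
      exact one_ne_zero this
    have hmem : Q.K.xU F (D.simple i) 1 ∈ D.unipotentRadical F J :=
      Subgroup.subset_closure ⟨_, 1, (Q.ord.isPosRoot_iff _).2 ⟨hs1, hs2⟩, hnot, rfl⟩
    have hconj := Q.radical_le_pos hS ((Subgroup.mem_normalizer_iff.1
      (show (x : GL D.Idx F) ∈ Subgroup.normalizer (D.unipotentRadical F J : Set (GL D.Idx F))
        from hxM) _).1 hmem)
    rw [hx', Q.K.nS_conj_xU F hi hs1] at hconj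
    have hlt : Q.K.w i (D.simple i) < D.nroots / 2 := by
      rw [← sigma_eq_w Q.X.good Q.K hin hs1]
      exact (Q.X.good.simple_spec hin).2.2
    have h1 := Q.pos_inf_neg hconj (Subgroup.subset_closure ⟨_, _,
      (Q.ord.isNegRoot_iff _).2 hlt, rfl⟩)
    rw [Q.K.xU_eq_one_iff F (Q.K.w_lt i hi _ hs1).1] at h1
    rcases Q.K.sg_pm i (D.simple i) with h | h <;> simp [h] at h1
  have : (⟨g, hgG⟩ : ↥(D.group F)) ∈ M := hg
  rw [hM] at this
  exact hle this

/-- A single fundamental root: the radical is generated by the other positive roots. -/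
theorem inRootSub_singleton {i : ℕ} (hi : i < D.rank) :
    ∀ {r}, D.nroots / 2 ≤ r → D.InRootSub {i} r → r = D.simple i := by
  intro r
  induction r using Nat.strong_induction_on with
  | _ r ih =>
    intro hp h
    rcases descend Q.X.good Q.K hS h hp with ⟨j, -, hj, rfl⟩ | ⟨j, hjn, hj, h1, h2, h3⟩
    · rw [Set.mem_singleton_iff.1 hj]
    · obtain rfl : j = i := hj
      have e := ih _ h1 h2 h3
      exfalso
      have hs := Q.X.good.simple_spec hjn
      have hh := (Q.X.good.sigma_spec hjn h.1).2.2.1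
      rw [e] at hh
      have := hs.2.2
      omega

theorem levi_rank_one {i : ℕ} (hi : i < D.rank) :
    D.rootSubgroup F (D.simple i) ⊔ D.rootSubgroup F (D.neg (D.simple i)) ≤
        Subgroup.normalizer (Subgroup.closure {g : GL D.Idx F | ∃ (s : ℕ) (t : F), D.IsPosRoot s ∧
          s ≠ D.simple i ∧ (g : Matrix D.Idx D.Idx F) = D.x F s t} : Set (GL D.Idx F)) ∧
      Subgroup.closure {g : GL D.Idx F | ∃ (s : ℕ) (t : F), D.IsPosRoot s ∧ s ≠ D.simple i ∧
          (g : Matrix D.Idx D.Idx F) = D.x F s t} ⊔ D.rootSubgroup F (D.simple i)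
        = D.posUnipotent F := by
  have hsimp := Q.simple_inRootSub hS hi (Set.mem_singleton i)
  have hiff : ∀ s, D.IsPosRoot s → (¬ D.InRootSub {i} s ↔ s ≠ D.simple i) := fun s hs => by
    refine not_congr ⟨Q.inRootSub_singleton hS hi ((Q.ord.isPosRoot_iff s).1 hs).2, ?_⟩
    rintro rfl; exact hsimp
  have hrad : Subgroup.closure {g : GL D.Idx F | ∃ (s : ℕ) (t : F), D.IsPosRoot s ∧
      s ≠ D.simple i ∧ (g : Matrix D.Idx D.Idx F) = D.x F s t} = D.unipotentRadical F {i} := by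
    unfold ChevalleyDatum.unipotentRadical
    refine congrArg Subgroup.closure (Set.ext fun g => ⟨?_, ?_⟩)
    · rintro ⟨s, t, h1, h2, h3⟩; exact ⟨s, t, h1, (hiff s h1).2 h2, h3⟩
    · rintro ⟨s, t, h1, h2, h3⟩; exact ⟨s, t, h1, (hiff s h1).1 h2, h3⟩
  rw [hrad]
  have hroot : ∀ r, D.InRootSub {i} r → D.rootSubgroup F r ≤ D.parabolicSubgroup F {i} := by
    intro r hr g hg
    obtain ⟨t, rfl⟩ := (Q.K.mem_rootSubgroup F).1 hg
    rw [Q.parabolic_eq hS]
    exact Subgroup.mem_sup_right (Subgroup.subset_closure ⟨r, t, Or.inr hr, rfl⟩)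
  refine ⟨le_trans (sup_le (hroot _ hsimp) (hroot _ (inRootSub_neg Q.X.good Q.K hS hsimp)))
    (Q.parabolic_le_normalizer hS), le_antisymm (sup_le (Q.radical_le_pos hS) ?_) ?_⟩
  · intro g hg
    obtain ⟨t, rfl⟩ := (Q.K.mem_rootSubgroup F).1 hg
    exact Q.xU_mem_pos (Q.K.simple_lt i hi).1 (Q.K.simple_lt i hi).2 t
  · refine (Subgroup.closure_le _).2 ?_
    rintro g ⟨r, t, hr, hg⟩
    by_cases h : r = D.simple i
    · subst h
      exact Subgroup.mem_sup_right ((Q.K.mem_rootSubgroup F).2 ⟨t, Units.ext hg⟩)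
    · exact Subgroup.mem_sup_left (Subgroup.subset_closure ⟨r, t, hr, (hiff r hr).2 h, hg⟩)

end Cfsg.Agent.H37.Chev.Data
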