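import Cfsg.Agent.H37.Chev.Make
import Cfsg.Agent.H37.Chev.GLForm
import Cfsg.Agent.H37.Chev.Parabolic
import Cfsg.Agent.Chevalley.All

/-!
The data of the seven tabulated groups.
-/
set_option autoImplicit false
set_option Elab.async false
set_option maxRecDepth 100000

namespace Cfsg.Agent.H37.Chev

open Cfsg.Lie

theorem relB_G2 : relB chevG2 Chevalley.G2.tab.w Chevalley.G2.tab.sg typeG2.M = true := by
  decide +kernel

/-- The data of type G2. -/
def dataG2 (F : Type*) [Field F] : Data chevG2 F :=
  mkData Chevalley.G2.cert F typeG2 ordered_g2 rfl rfl relB_G2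

theorem relB_B2 : relB chevB2 Chevalley.B2.tab.w Chevalley.B2.tab.sg typeB2.M = true := by
  decide +kernel

/-- The data of type B2. -/
def dataB2 (F : Type*) [Field F] : Data chevB2 F :=
  mkData Chevalley.B2.cert F typeB2 ordered_b2 rfl rfl relB_B2

theorem relB_D4 : relB chevD4 Chevalley.D4.tab.w Chevalley.D4.tab.sg typeD4.M = true := by
  decide +kernel

/-- The data of type D4. -/
def dataD4 (F : Type*) [Field F] : Data chevD4 F :=
  mkData Chevalley.D4.cert F typeD4 ordered_d4 rfl rfl relB_D4

theorem relB_F4 : relB chevF4 Chevalley.F4.tab.w Chevalley.F4.tab.sg typeF4.M = true := by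
  decide +kernel

/-- The data of type F4. -/
def dataF4 (F : Type*) [Field F] : Data chevF4 F :=
  mkData Chevalley.F4.cert F typeF4 ordered_f4 rfl rfl relB_F4

theorem relB_E6 : relB chevE6 Chevalley.E6.tab.w Chevalley.E6.tab.sg typeE6.M = true := by
  decide +kernel

/-- The data of type E6. -/
def dataE6 (F : Type*) [Field F] : Data chevE6 F :=
  mkData Chevalley.E6.cert F typeE6 ordered_e6 rfl rfl relB_E6

theorem relB_E7 : relB chevE7 Chevalley.E7.tab.w Chevalley.E7.tab.sg typeE7.M = true := by
  decide +kernel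

/-- The data of type E7. -/
def dataE7 (F : Type*) [Field F] : Data chevE7 F :=
  mkData Chevalley.E7.cert F typeE7 ordered_e7 rfl rfl relB_E7

/-- One row of the relation check of type E8. -/
def relRow (i : Fin 8) : Bool :=
  (List.finRange 8).all fun j =>
    [(false, false), (true, false), (false, true), (true, true)].any fun ab =>
      (List.range chevE8.nroots).all fun r =>
        act2 Chevalley.E8.tab.w Chevalley.E8.tab.sg (List.replicate (typeE8.M i j) [i.val, j.val]).flatten r
          == (r, maskSign chevE8 i.val j.val ab.1 ab.2 r)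

theorem relRow_E8_0 : relRow (0 : Fin 8) = true := by decide +kernel

theorem relRow_E8_1 : relRow (1 : Fin 8) = true := by decide +kernel

theorem relRow_E8_2 : relRow (2 : Fin 8) = true := by decide +kernel

theorem relRow_E8_3 : relRow (3 : Fin 8) = true := by decide +kernel

theorem relRow_E8_4 : relRow (4 : Fin 8) = true := by decide +kernel

theorem relRow_E8_5 : relRow (5 : Fin 8) = true := by decide +kernel

theorem relRow_E8_6 : relRow (6 : Fin 8) = true := by decide +kernel

theorem relRow_E8_7 : relRow (7 : Fin 8) = true := by decide +kernel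

theorem relB_E8 : relB chevE8 Chevalley.E8.tab.w Chevalley.E8.tab.sg typeE8.M = true := by
  show (List.finRange 8).all relRow = true
  rw [List.all_eq_true]
  intro i _
  fin_cases i
  exacts [relRow_E8_0, relRow_E8_1, relRow_E8_2, relRow_E8_3, relRow_E8_4, relRow_E8_5, relRow_E8_6, relRow_E8_7]

/-- The data of type E8. -/
def dataE8 (F : Type*) [Field F] : Data chevE8 F :=
  mkData Chevalley.E8.cert F typeE8 ordered_e8 rfl rfl relB_E8

theorem exists_data {D : ChevalleyDatum}
    (hD : D ∈ [chevG2, chevB2, chevD4, chevF4, chevE6, chevE7, chevE8]) (F : Type*) [Field F] :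
    ∃ Q : Data D F, Sup Q.X.C D Q.X.n := by
  simp only [List.mem_cons, List.not_mem_nil, or_false] at hD
  rcases hD with rfl | rfl | rfl | rfl | rfl | rfl | rfl
  · exact ⟨dataG2 F, sup_of_check supB_G2⟩
  · exact ⟨dataB2 F, sup_of_check supB_B2⟩
  · exact ⟨dataD4 F, sup_of_check supB_D4⟩
  · exact ⟨dataF4 F, sup_of_check supB_F4⟩
  · exact ⟨dataE6 F, sup_of_check supB_E6⟩
  · exact ⟨dataE7 F, sup_of_check supB_E7⟩
  · exact ⟨dataE8 F, sup_of_check supB_E8⟩

theorem perfect {D : ChevalleyDatum} {F : Type*} [Field F]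
    (hD : D ∈ [chevG2, chevB2, chevD4, chevF4, chevE6, chevE7, chevE8])
    (h2 : D = chevG2 ∨ D = chevB2 → ∃ a : F, a ≠ 0 ∧ a ≠ 1) :
    commutator ↥(D.group F) = ⊤ := by
  simp only [List.mem_cons, List.not_mem_nil, or_false] at hD
  rcases hD with rfl | rfl | rfl | rfl | rfl | rfl | rfl
  · exact perfect_of_allA (dataG2 F) (dataG2 F).hConj (h2 (Or.inl rfl)) allA_G2
  · exact perfect_of_allA (dataB2 F) (dataB2 F).hConj (h2 (Or.inr rfl)) allA_B2
  · exact perfect_of_allB (dataD4 F) allB_D4
  · exact perfect_of_allB (dataF4 F) allB_F4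
  · exact perfect_of_allB (dataE6 F) allB_E6
  · exact perfect_of_allB (dataE7 F) allB_E7
  · exact perfect_of_allB (dataE8 F) allB_E8

end Cfsg.Agent.H37.Chev
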