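import Cfsg.Agent.H37.Chev.Perfect
import Cfsg.Agent.H37.Weyl.OrderArith
import Cfsg.Agent.H37.Tits.Simple

/-!
Consequences of the split Tits system in the form of the statements: normal form in `GL`, solvable
Borel subgroup, simplicity, orders.
-/
set_option autoImplicit false

namespace Cfsg.Agent.H37.Chev.Data

open Cfsg.Lie Cfsg.Agent.H37.RootSys

variable {D : ChevalleyDatum} {F : Type*} [Field F] (Q : Data D F)
include Q

theorem diag_comm {g h : GL D.Idx F} (hg : g ∈ D.diagonalSubgroup F)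
    (hh : h ∈ D.diagonalSubgroup F) : g * h = h * g := by
  refine Units.ext ?_
  ext a b
  simp only [Units.val_mul, Matrix.mul_apply]
  rw [Finset.sum_eq_single a (fun c _ hc => by rw [Q.T.off _ hg a c (Ne.symm hc), zero_mul])
      (by simp),
    Finset.sum_eq_single a (fun c _ hc => by rw [Q.T.off _ hh a c (Ne.symm hc), zero_mul])
      (by simp)]
  by_cases hab : a = b
  · subst hab; ring
  · rw [Q.T.off _ hh a b hab, Q.T.off _ hg a b hab]; ring

theorem nilpotent_U : Group.IsNilpotent (D.posUnipotent F) := by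
  haveI : Group.IsNilpotent (posUni D F) :=
    uniGroup_isNilpotent (R := F) (rk := rk D) (N := D.nroots + 1) rk_lt
  exact Group.nilpotent_of_mulEquiv
    (Subgroup.subgroupOfEquivOfLe (posUnipotent_le_uni (F := F) Q.ord))

theorem solvable_B : Group.IsSolvable Q.amb.B := by
  set N : Subgroup Q.amb.B := Q.amb.U.subgroupOf Q.amb.B
  haveI hN : N.Normal := by
    refine ⟨fun a ha b => ?_⟩
    rw [Subgroup.mem_subgroupOf] at ha ⊢
    obtain ⟨u, hu, h, hh, e⟩ := b.2
    show (b : ↥(D.group F)) * a * (b : ↥(D.group F))⁻¹ ∈ Q.amb.U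
    rw [e, show u * h * (a : ↥(D.group F)) * (u * h)⁻¹ = u * (h * a * h⁻¹) * u⁻¹ by group]
    exact mul_mem (mul_mem hu (Q.amb.H_conj_U h hh _ ha)) (inv_mem hu)
  haveI h1 : Group.IsSolvable Q.amb.U := by
    haveI := Q.nilpotent_U
    haveI : Group.IsSolvable (D.posUnipotent F) := inferInstance
    rw [Q.amb_U]
    exact Group.isSolvable_of_isSolvable_injective
      (f := (Subgroup.subgroupOfEquivOfLe posUnipotent_le_group).toMonoidHom) (MulEquiv.injective _)
  haveI h2 : Group.IsSolvable N :=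
    Group.isSolvable_of_isSolvable_injective
      (f := (Subgroup.subgroupOfEquivOfLe Q.amb.U_le_B).toMonoidHom) (MulEquiv.injective _)
  haveI h3 : Group.IsSolvable (Q.amb.B ⧸ N) := by
    refine Group.isSolvable_of_comm fun x y => ?_
    induction x using QuotientGroup.induction_on with | _ a =>
    induction y using QuotientGroup.induction_on with | _ b =>
    obtain ⟨u, hu, h, hh, ea⟩ := a.2
    obtain ⟨v, hv, k, hk, eb⟩ := b.2
    have hcl : ∀ (c : Q.amb.B) (u h : ↥(D.group F)) (_ : u ∈ Q.amb.U) (hh : h ∈ Q.amb.H),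
        (c : ↥(D.group F)) = u * h → (QuotientGroup.mk c : Q.amb.B ⧸ N)
          = QuotientGroup.mk ⟨h, Q.amb.H_le_B hh⟩ := by
      intro c u h hu hh e
      rw [QuotientGroup.eq, Subgroup.mem_subgroupOf]
      show (c : ↥(D.group F))⁻¹ * h ∈ Q.amb.U
      rw [e, show (u * h)⁻¹ * h = h⁻¹ * u⁻¹ * (h⁻¹)⁻¹ by group]
      exact Q.amb.H_conj_U _ (inv_mem hh) _ (inv_mem hu)
    rw [hcl a u h hu hh ea, hcl b v k hv hk eb, ← QuotientGroup.mk_mul, ← QuotientGroup.mk_mul]
    congr 1
    refine Subtype.ext (Subtype.ext ?_)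
    exact Q.diag_comm hh hk
  exact Group.isSolvable_of_ker_le_range N.subtype (QuotientGroup.mk' N)
    (by rw [QuotientGroup.ker_mk', Subgroup.range_subtype])

theorem solvable_borel : Group.IsSolvable (D.borelSubgroup F) := by
  haveI := Q.solvable_B
  haveI : Group.IsSolvable ((D.borelSubgroup F).subgroupOf (D.group F)) := Q.amb_B ▸ this
  exact Group.isSolvable_of_isSolvable_injective
    (f := (Subgroup.subgroupOfEquivOfLe (borel_le_group Q.ord)).symm.toMonoidHom) (MulEquiv.injective _)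

theorem simple (hperf : commutator ↥(D.group F) = ⊤) :
    IsSimpleGroup ↥(D.group F) ∧ ¬ IsMulCommutative ↥(D.group F) := by
  refine Q.amb.isSimpleGroup Q.U_ne_bot Q.Uw_w0 (fun h hh hc => ?_) Q.irred Q.solvable_B hperf
  refine Subtype.ext (Q.faithful (show (h : GL D.Idx F) ∈ D.diagonalSubgroup F from hh) ?_)
  intro r hr hp
  exact congrArg Subtype.val (hc (xG Q.K F r 1) (Q.sys.x_mem_U hr hp 1))

theorem core_borel : ((D.borelSubgroup F).subgroupOf (D.group F)).normalCore = ⊥ := by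
  rw [← Q.amb_B]; exact Q.core_eq_bot

theorem exists_BNPair :
    ∃ P : Cfsg.BNPair ↥(D.group F),
      P.B = (D.borelSubgroup F).subgroupOf (D.group F) ∧
      P.N = (D.monomialSubgroup F).subgroupOf (D.group F) ∧
      P.S = {n : ↥(D.group F) | ∃ i < D.rank,
        ((n : GL D.Idx F) : Matrix D.Idx D.Idx F) = D.nMat F (D.simple i) 1} :=
  ⟨Q.amb.pair, Q.amb.pair_B.trans Q.amb_B, Q.amb.pair_N.trans Q.amb_N, Q.amb_S⟩

theorem card_group [Finite F] {degs : List ℕ} (hdeg : Q.X.C.degCheck Q.X.n degs = true)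
    (hlen : degs.length = Q.X.n) {d : ℕ}
    (hH : d * Nat.card (D.diagonalSubgroup F) = (Nat.card F - 1) ^ Q.X.n) :
    d * Nat.card ↥(D.group F)
      = Nat.card F ^ (D.nroots / 2) * (degs.map fun e => Nat.card F ^ e - 1).prod :=
  card_of_cells Q.X.good hdeg hlen Q.amb.toNormalForm Nat.card_pos Q.card_U
    (by rw [show Q.amb.toNormalForm.H = Q.amb.H from rfl, Q.card_H]; exact hH) Q.card_Uw

theorem w0_inv_mul : Q.X.w0⁻¹ * Q.X.w0 = 1 := inv_mul_cancel _

/-- Conjugation of `U` to `V` by the longest element. -/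
theorem exists_swap : ∃ n ∈ D.monomialSubgroup F,
    (D.posUnipotent F).map (MulAut.conj n).toMonoidHom = D.negUnipotent F := by
  set w := Q.X.w0
  refine ⟨_, Q.rep_mem_monomial w, le_antisymm ?_ ?_⟩
  · rw [Subgroup.map_le_iff_le_comap]
    refine (Subgroup.closure_le _).2 ?_
    rintro g ⟨r, t, hr, hg⟩
    obtain ⟨hr1, hr2⟩ := (Q.ord.isPosRoot_iff r).1 hr
    obtain ⟨t', e⟩ := Q.sys.rep_conj w r hr1 t
    have hlt := Q.X.w0_neg hr1 hr2
    have e' := congrArg (Subtype.val (p := fun g => g ∈ D.group F)) e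
    rw [SetLike.mem_coe, Subgroup.mem_comap, show g = Q.K.xU F r t from Units.ext hg]
    refine Subgroup.subset_closure ⟨_, t', (Q.ord.isNegRoot_iff _).2 hlt, ?_⟩
    exact congrArg Units.val e'
  · refine (Subgroup.closure_le _).2 ?_
    rintro g ⟨r, t, hr, hg⟩
    have hr' := (Q.ord.isNegRoot_iff r).1 hr
    set s := Q.X.good.hom w⁻¹ ⟨r, hr.1⟩ with hs
    have hws : Q.X.good.hom w s = ⟨r, hr.1⟩ := by simp [hs]
    have hsp : D.nroots / 2 ≤ s.val := by
      by_contra hcon
      have hev := Q.ord.even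
      have h1 := Q.X.w0_neg (r := D.nroots - 1 - s.val) (by omega) (by omega)
      rw [Q.X.good.hom_neg w s, hws] at h1
      simp only at h1
      omega
    obtain ⟨t', e⟩ := Q.sys.rep_conj w⁻¹ r hr.1 t
    obtain ⟨k, hk, ek⟩ := Q.sys.rep_inv w
    obtain ⟨t'', e''⟩ := Q.sys.h_conj k hk s.val s.isLt t'
    refine ⟨Q.K.xU F s.val t'', Subgroup.subset_closure
      ⟨s.val, t'', (Q.ord.isPosRoot_iff _).2 ⟨s.isLt, hsp⟩, rfl⟩, ?_⟩
    have e1 : (Q.sys.rep w)⁻¹ * Q.sys.x r t * Q.sys.rep w = Q.sys.x s.val t'' := by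
      rw [← e'', hs, ← e, ← inv_inv (Q.sys.rep w), ek]
      group
    have e2 := congrArg (Subtype.val (p := fun g => g ∈ D.group F)) e1
    rw [show g = Q.K.xU F r t from Units.ext hg]
    show ((Q.sys.rep w : ↥(D.group F)) : GL D.Idx F) * _ * _ = _
    rw [show Q.K.xU F s.val t'' = ((Q.sys.x s.val t'' : ↥(D.group F)) : GL D.Idx F) from rfl, ← e2]
    simp only [Subgroup.coe_mul, Subgroup.coe_inv]
    show _ = ((Q.sys.x r t : ↥(D.group F)) : GL D.Idx F)
    group

end Cfsg.Agent.H37.Chev.Data
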