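import Cfsg.Agent.H37.Chev.All
import Cfsg.Agent.H37.DiagonalCard

/-!
Orders of the diagonal subgroups and of the tabulated groups.
-/
set_option autoImplicit false

namespace Cfsg.Agent.H37.Chev

open Cfsg.Lie

theorem card_diag {D : ChevalleyDatum} {F : Type*} [Field F] [Finite F] (Q : Data D F)
    (A : Matrix (Fin D.rank) (Fin D.rank) ℤ)
    (hA : ∀ i j, A i j = D.cartan i.val (D.simple j.val)) {d e : ℕ} (C : KerCert A d e) :
    Nat.gcd d (Nat.card F - 1) ^ e * Nat.card (D.diagonalSubgroup F)
      = (Nat.card F - 1) ^ D.rank := by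
  refine card_diagonal Q.ord (fun i hi => (Q.K.simple_lt i hi).1) (fun i hi c hc => ?_)
    (fun g hg => ?_) Q.K.cf (fun i hi s hs => ?_) A hA C
  · have h := congrArg Units.val (Q.K.hU_diag F (Q.K.simple_lt i hi).1 (Units.mk0 c hc))
    rw [Units.val_mk0, Q.K.coe_hU] at h
    rw [h]
    show (Chevalley.dU _ : GL D.Idx F).val = _
    rw [Chevalley.coe_dU]
    congr 1
    funext x
    rcases x with a | s
    · simp [Chevalley.pe]
    · simp [Chevalley.pe, Q.K.pairing_simple hi]
  · rw [Q.K.diagonalSubgroup_eq F] at hg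
    obtain ⟨v, rfl⟩ := hg
    refine ⟨fun i => if h : i < D.rank then (v ⟨i, h⟩ : F) else 1, fun i hi => ?_, ?_⟩
    · simp [hi]
    · exact Q.K.torus_wordMat F _ v fun m => by simp
  · rw [Q.K.cartan_lin i hi s hs, Chevalley.list_sum_range_map,
      ← Fin.sum_univ_eq_sum_range (fun j => Q.K.cf s j * D.cartan i (D.simple j))]

variable (F : Type*) [Field F] [Finite F]

theorem diag_G2 : 1 * Nat.card (chevG2.diagonalSubgroup F) = (Nat.card F - 1) ^ 2 := by
  have := card_diag (dataG2 F) cartanG2 (fun i j => of_decide_eq_true ((show ∀ i j : Fin 2, decide (cartanG2 i j = chevG2.cartan i.val (chevG2.simple j.val)) = true by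
    decide +kernel) i j)) kerCertG2
  rw [pow_zero, one_mul] at this
  rw [one_mul]; exact this

theorem diag_B2 : Nat.gcd 2 (Nat.card F - 1) * Nat.card (chevB2.diagonalSubgroup F)
    = (Nat.card F - 1) ^ 2 := by
  have := card_diag (dataB2 F) cartanB2 (fun i j => of_decide_eq_true ((show ∀ i j : Fin 2, decide (cartanB2 i j = chevB2.cartan i.val (chevB2.simple j.val)) = true by
    decide +kernel) i j)) kerCertB2
  rwa [pow_one] at this

theorem diag_D4 : Nat.gcd 2 (Nat.card F - 1) ^ 2 * Nat.card (chevD4.diagonalSubgroup F)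
    = (Nat.card F - 1) ^ 4 :=
  card_diag (dataD4 F) cartanD4 (fun i j => of_decide_eq_true ((show ∀ i j : Fin 4, decide (cartanD4 i j = chevD4.cartan i.val (chevD4.simple j.val)) = true by
    decide +kernel) i j)) kerCertD4

theorem diag_F4 : 1 * Nat.card (chevF4.diagonalSubgroup F) = (Nat.card F - 1) ^ 4 := by
  have := card_diag (dataF4 F) cartanF4 (fun i j => of_decide_eq_true ((show ∀ i j : Fin 4, decide (cartanF4 i j = chevF4.cartan i.val (chevF4.simple j.val)) = true by
    decide +kernel) i j)) kerCertF4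
  rw [pow_zero, one_mul] at this
  rw [one_mul]; exact this

theorem diag_E6 : Nat.gcd 3 (Nat.card F - 1) * Nat.card (chevE6.diagonalSubgroup F)
    = (Nat.card F - 1) ^ 6 := by
  have := card_diag (dataE6 F) cartanE6 (fun i j => of_decide_eq_true ((show ∀ i j : Fin 6, decide (cartanE6 i j = chevE6.cartan i.val (chevE6.simple j.val)) = true by
    decide +kernel) i j)) kerCertE6
  rwa [pow_one] at this

theorem diag_E7 : Nat.gcd 2 (Nat.card F - 1) * Nat.card (chevE7.diagonalSubgroup F)
    = (Nat.card F - 1) ^ 7 := by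
  have := card_diag (dataE7 F) cartanE7 (fun i j => of_decide_eq_true ((show ∀ i j : Fin 7, decide (cartanE7 i j = chevE7.cartan i.val (chevE7.simple j.val)) = true by
    decide +kernel) i j)) kerCertE7
  rwa [pow_one] at this

theorem diag_E8 : 1 * Nat.card (chevE8.diagonalSubgroup F) = (Nat.card F - 1) ^ 8 := by
  have := card_diag (dataE8 F) cartanE8 (fun i j => of_decide_eq_true ((show ∀ i j : Fin 8, decide (cartanE8 i j = chevE8.cartan i.val (chevE8.simple j.val)) = true by
    decide +kernel) i j)) kerCertE8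
  rw [pow_zero, one_mul] at this
  rw [one_mul]; exact this

end Cfsg.Agent.H37.Chev
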