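import Cfsg.Agent.H37.Chev.Struct

/-!
Perfectness of the tabulated Chevalley groups, from kernel checks on the commutator tables.
-/
set_option autoImplicit false
set_option Elab.async false

namespace Cfsg.Agent.H37.Chev

open Cfsg.Lie Cfsg.Agent.H37.RootSys

/-- The fundamental root reached from a positive root by descent, if found. -/
def baseP (C : Weyl.Cert) (D : ChevalleyDatum) (n : ℕ) : ℕ → ℕ → Option ℕ
  | 0, _ => none
  | f + 1, r =>
      match (List.range n).find? (fun i => r == D.simple i) with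
      | some i => some i
      | none =>
          match (List.range n).find? (fun i =>
            decide (C.sigma i r < r) && decide (D.nroots / 2 ≤ C.sigma i r)) with
          | some i => baseP C D n f (C.sigma i r)
          | none => none

/-- The fundamental root reached from a root, up to sign. -/
def base (C : Weyl.Cert) (D : ChevalleyDatum) (n r : ℕ) : Option ℕ :=
  if r < D.nroots / 2 then baseP C D n D.nroots (D.neg r) else baseP C D n D.nroots r

/-- The root is a conjugate, up to sign, of a listed fundamental root. -/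
def inOrb (C : Weyl.Cert) (D : ChevalleyDatum) (n : ℕ) (L : List ℕ) (r : ℕ) : Bool :=
  match base C D n r with
  | some i => L.contains i
  | none => false

/-- Some torus exponent at the fundamental root is `±1`. -/
def stepA (D : ChevalleyDatum) (n i : ℕ) : Bool :=
  (List.range n).any fun j => (D.cartan j (D.simple i) == 1) || (D.cartan j (D.simple i) == -1)

/-- The fundamental root is the only new target of some commutator, with a unit coefficient. -/
def stepB (C : Weyl.Cert) (D : ChevalleyDatum) (n : ℕ) (L : List ℕ) (i : ℕ) : Bool :=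
  (List.range D.nroots).any fun r => (List.range D.nroots).any fun s =>
    !(s == r) && !(s == D.neg r) &&
    (let ts := D.commTerms r s
     match ts.filter (fun c => c.1 == D.simple i) with
     | [c] => ((c.2.1 == 1) || (c.2.1 == -1)) && ((c.2.2.1 == 1) || (c.2.2.2 == 1)) &&
         ts.all fun d => (d.1 == D.simple i) || inOrb C D n L d.1
     | _ => false)

/-- Fundamental roots obtained from commutators alone, in two rounds. -/
def allB (C : Weyl.Cert) (D : ChevalleyDatum) (n : ℕ) : Bool :=
  let L := (List.range n).filter fun i => stepB C D n [] i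
  (List.range n).all fun i => L.contains i || stepB C D n L i

/-- Fundamental roots obtained from the torus or from commutators. -/
def allA (C : Weyl.Cert) (D : ChevalleyDatum) (n : ℕ) : Bool :=
  let L := (List.range n).filter fun i => stepA D n i
  (List.range n).all fun i => L.contains i || stepB C D n L i

namespace Data

variable {D : ChevalleyDatum} {F : Type*} [Field F] (Q : Data D F)

/-- A root subgroup inside a normal subgroup. -/
def Inside (P : Subgroup ↥(D.group F)) (r : ℕ) : Prop := ∀ t, xG Q.K F r t ∈ P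

variable (P : Subgroup ↥(D.group F)) [hP : P.Normal]

include hP in
theorem inside_w {i s : ℕ} (hi : i < Q.X.n) (hs : s < D.nroots) (h : Q.Inside P s) :
    Q.Inside P (Q.X.C.sigma i s) := by
  intro t
  have hi' : i < D.rank := Q.rank_eq.symm ▸ hi
  have e : xG Q.K F (Q.X.C.sigma i s) t
      = nG Q.K F i * xG Q.K F s ((Q.K.sg i s : F) * t) * (nG Q.K F i)⁻¹ := by
    refine Subtype.ext ?_
    show Q.K.xU F _ t = Q.K.nS F i * Q.K.xU F s _ * (Q.K.nS F i)⁻¹
    rw [Q.K.nS_conj_xU F hi' hs, sigma_eq_w Q.X.good Q.K hi hs]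
    rcases Q.K.sg_pm i s with h1 | h1 <;> simp [h1]
  rw [e]
  exact hP.conj_mem _ (h _) _

include hP in
theorem inside_baseP : ∀ f r, r < D.nroots → D.nroots / 2 ≤ r →
    ∀ i, baseP Q.X.C D Q.X.n f r = some i → Q.Inside P (D.simple i) →
      Q.Inside P r ∧ Q.Inside P (D.neg r)
  | 0, r, _, _, i, h, _ => by simp [baseP] at h
  | f + 1, r, hr, hp, i, h, hi => by
    simp only [baseP] at h
    cases h1 : (List.range Q.X.n).find? (fun i => r == D.simple i) with
    | some a =>
      rw [h1] at h
      obtain rfl : a = i := by simpa using h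
      have ha := List.find?_some h1
      simp only [beq_iff_eq] at ha
      have hal : a < Q.X.n := List.mem_range.1 (List.mem_of_find?_eq_some h1)
      subst ha
      refine ⟨hi, ?_⟩
      rw [← neg_simple_eq Q.X.good Q.K hal]
      exact Q.inside_w P hal hr hi
    | none =>
      rw [h1] at h
      cases h2 : (List.range Q.X.n).find? (fun i =>
          decide (Q.X.C.sigma i r < r) && decide (D.nroots / 2 ≤ Q.X.C.sigma i r)) with
      | none => rw [h2] at h; simp at h
      | some a =>
        rw [h2] at h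
        have ha := List.find?_some h2
        simp only [Bool.and_eq_true, decide_eq_true_eq] at ha
        have hal : a < Q.X.n := List.mem_range.1 (List.mem_of_find?_eq_some h2)
        have hsig := Q.X.good.sigma_spec hal hr
        obtain ⟨g1, g2⟩ := inside_baseP f _ hsig.1 ha.2 i h hi
        refine ⟨?_, ?_⟩
        · have := Q.inside_w P hal hsig.1 g1
          rwa [hsig.2.2.1] at this
        · have := Q.inside_w P hal (Q.K.neg_lt hsig.1) g2
          rwa [Q.K.neg_eq _ hsig.1, (Q.X.good.sigma_spec hal hsig.1).2.2.2.1, hsig.2.2.1,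
            ← Q.K.neg_eq _ hr] at this

include hP in
theorem inside_inOrb {L : List ℕ} (hL : ∀ i ∈ L, Q.Inside P (D.simple i)) {r : ℕ}
    (hr : r < D.nroots) (h : inOrb Q.X.C D Q.X.n L r = true) : Q.Inside P r := by
  unfold inOrb base at h
  have hev := Q.ord.even
  by_cases hlt : r < D.nroots / 2
  · rw [if_pos hlt] at h
    cases hb : baseP Q.X.C D Q.X.n D.nroots (D.neg r) with
    | none => rw [hb] at h; simp at h
    | some i =>
      rw [hb] at h
      have := (Q.inside_baseP P _ _ (Q.K.neg_lt hr) (by rw [Q.K.neg_eq r hr]; omega) i hb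
        (hL i (by simpa using h))).2
      rwa [Q.K.neg_neg hr] at this
  · rw [if_neg hlt] at h
    cases hb : baseP Q.X.C D Q.X.n D.nroots r with
    | none => rw [hb] at h; simp at h
    | some i =>
      rw [hb] at h
      exact (Q.inside_baseP P _ _ hr (by omega) i hb (hL i (by simpa using h))).1

include hP in
theorem inside_stepB (hcomm : commutator ↥(D.group F) ≤ P) {L : List ℕ}
    (hL : ∀ i ∈ L, Q.Inside P (D.simple i)) {i : ℕ}
    (h : stepB Q.X.C D Q.X.n L i = true) : Q.Inside P (D.simple i) := by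
  simp only [stepB, List.any_eq_true, List.mem_range, Bool.and_eq_true, Bool.not_eq_true',
    beq_eq_false_iff_ne] at h
  obtain ⟨r, hr, s, hs, ⟨h1, h2⟩, h3⟩ := h
  generalize hts : D.commTerms r s = ts at h3
  split at h3
  case h_2 => simp at h3
  rename_i c hc
  simp only [Bool.and_eq_true, Bool.or_eq_true, beq_iff_eq, List.all_eq_true] at h3
  obtain ⟨⟨hm, hab⟩, hall⟩ := h3
  intro v
  -- parameters making the value at the fundamental root equal to `v`
  obtain ⟨t, u, htu⟩ : ∃ t u : F, (c.2.1 : F) * (-t) ^ c.2.2.1 * u ^ c.2.2.2 = v := by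
    rcases hab with ha | hb
    · refine ⟨-((c.2.1 : F) * v), 1, ?_⟩
      rcases hm with h' | h' <;> simp [ha, h']
    · refine ⟨-1, (c.2.1 : F) * v, ?_⟩
      rcases hm with h' | h' <;> simp [hb, h']
  have he := Q.K.xU_conj F hr hs h1 h2 t u
  set e : ↥(D.group F) :=
    ⟨Q.K.wU F (D.commWord F r s t u), Q.K.wU_mem F fun p _ => Q.K.xU_mem_group F p.1 p.2⟩
  have hmem : e ∈ P := by
    have e1 : e = (xG Q.K F s u)⁻¹ * ((xG Q.K F r t)⁻¹ * xG Q.K F s u * xG Q.K F r t) := by
      refine Subtype.ext ?_
      show Q.K.wU F _ = (Q.K.xU F s u)⁻¹ * ((Q.K.xU F r t)⁻¹ * Q.K.xU F s u * Q.K.xU F r t)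
      rw [he, inv_mul_cancel_left]
    rw [e1]
    refine hcomm ?_
    rw [commutator_def]
    have := Subgroup.commutator_mem_commutator (H₁ := (⊤ : Subgroup ↥(D.group F))) (H₂ := ⊤)
      (Subgroup.mem_top (xG Q.K F s u)⁻¹) (Subgroup.mem_top (xG Q.K F r t)⁻¹)
    simpa [commutatorElement_def, mul_assoc] using this
  obtain ⟨pre, post, hsplit, hpre, hpost⟩ : ∃ pre post, ts = pre ++ c :: post ∧
      (∀ d ∈ pre, d.1 ≠ D.simple i) ∧ (∀ d ∈ post, d.1 ≠ D.simple i) := by
    obtain ⟨pre, post, e1, e2, -, e3⟩ := List.filter_eq_cons_iff.1 hc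
    exact ⟨pre, post, e1, fun d hd => by simpa using e2 d hd,
      fun d hd => by simpa using List.filter_eq_nil_iff.1 e3 d hd⟩
  have hc1 : c.1 = D.simple i := by
    have : c ∈ ts.filter (fun c => c.1 == D.simple i) := by rw [hc]; simp
    simpa using (List.mem_filter.1 this).2
  let val : ℕ × ℤ × ℕ × ℕ → ↥(D.group F) := fun d =>
    xG Q.K F d.1 ((d.2.1 : F) * (-t) ^ d.2.2.1 * u ^ d.2.2.2)
  have hep : e = (pre.map val).prod * val c * (post.map val).prod := by
    refine Subtype.ext ?_
    show Q.K.wU F (D.commWord F r s t u) = _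
    rw [ChevalleyDatum.commWord, hts, hsplit, List.map_append, List.map_cons, Q.K.wU_append,
      Q.K.wU_cons, Subgroup.coe_mul, Subgroup.coe_mul, Subgroup.val_list_prod,
      Subgroup.val_list_prod, List.map_map, List.map_map, ← mul_assoc]
    simp only [Chevalley.Cert.wU, List.map_map]
    rfl
  have hin : ∀ d ∈ ts, d.1 ≠ D.simple i → val d ∈ P := by
    intro d hd hne
    refine Q.inside_inOrb P hL (Q.K.commTerms_cf (hts ▸ hd)).1.1 ?_ _
    rcases hall d hd with h' | h'
    · exact absurd h' hne
    · exact h'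
  have hA : (pre.map val).prod ∈ P := Subgroup.list_prod_mem _ fun g hg => by
    obtain ⟨d, hd, rfl⟩ := List.mem_map.1 hg
    exact hin d (hsplit ▸ List.mem_append_left _ hd) (hpre d hd)
  have hB : (post.map val).prod ∈ P := Subgroup.list_prod_mem _ fun g hg => by
    obtain ⟨d, hd, rfl⟩ := List.mem_map.1 hg
    exact hin d (hsplit ▸ List.mem_append_right _ (List.mem_cons_of_mem _ hd)) (hpost d hd)
  have hval : val c ∈ P := by
    have := mul_mem (mul_mem (inv_mem hA) hmem) (inv_mem hB)
    rw [hep] at this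
    simpa [mul_assoc] using this
  simpa [val, hc1, htu] using hval

/-- The conjugation formula for fundamental torus elements. -/
def HConj : Prop :=
  ∀ j, j < D.rank → ∀ s, s < D.nroots → ∀ (c : F), c ≠ 0 → ∀ t,
    Q.K.hU F (D.simple j) c * Q.K.xU F s t * (Q.K.hU F (D.simple j) c)⁻¹ =
      Q.K.xU F s (c ^ (D.cartan j s) * t)

include hP in
theorem inside_stepA (hcomm : commutator ↥(D.group F) ≤ P) (hh : Q.HConj)
    (hF : ∃ a : F, a ≠ 0 ∧ a ≠ 1) {i : ℕ} (hi : i < Q.X.n)
    (h : stepA D Q.X.n i = true) : Q.Inside P (D.simple i) := by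
  simp only [stepA, List.any_eq_true, List.mem_range, Bool.or_eq_true, beq_iff_eq] at h
  obtain ⟨j, hj, h'⟩ := h
  obtain ⟨a, ha0, ha1⟩ := hF
  obtain ⟨c, hc0, hc1⟩ : ∃ c : F, c ≠ 0 ∧ c ^ (D.cartan j (D.simple i)) = a := by
    rcases h' with e | e
    · exact ⟨a, ha0, by rw [e, zpow_one]⟩
    · exact ⟨a⁻¹, inv_ne_zero ha0, by rw [e, zpow_neg_one, inv_inv]⟩
  have hj' : j < D.rank := Q.rank_eq.symm ▸ hj
  have hs := (Q.X.good.simple_spec hi).2.1
  intro v
  set g : ↥(D.group F) := ⟨Q.K.hU F (D.simple j) c,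
    Q.K.wU_mem F fun p _ => Q.K.xU_mem_group F p.1 p.2⟩
  have e : xG Q.K F (D.simple i) v = g * xG Q.K F (D.simple i) (v / (a - 1)) * g⁻¹
      * (xG Q.K F (D.simple i) (v / (a - 1)))⁻¹ := by
    refine Subtype.ext ?_
    show Q.K.xU F _ v = Q.K.hU F _ c * Q.K.xU F _ _ * (Q.K.hU F _ c)⁻¹ * (Q.K.xU F _ _)⁻¹
    rw [hh j hj' _ hs c hc0, hc1, Q.K.xU_inv, Q.K.xU_add]
    congr 1
    have : a - 1 ≠ 0 := sub_ne_zero.2 ha1
    field_simp
    ring
  rw [e]
  refine hcomm ?_
  rw [commutator_def]
  simpa [commutatorElement_def] using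
    Subgroup.commutator_mem_commutator (H₁ := (⊤ : Subgroup ↥(D.group F))) (H₂ := ⊤)
      (Subgroup.mem_top g) (Subgroup.mem_top (xG Q.K F (D.simple i) (v / (a - 1))))

include hP in
theorem eq_top_of_simple (h : ∀ i, i < Q.X.n → Q.Inside P (D.simple i)) : P = ⊤ := by
  have key : ∀ r, r < D.nroots → D.nroots / 2 ≤ r → Q.Inside P r ∧ Q.Inside P (D.neg r) := by
    intro r
    induction r using Nat.strong_induction_on with
    | _ r ih =>
      intro hr hp
      rcases Q.X.climb r hr hp with ⟨i, hi, rfl⟩ | ⟨i, hi, h1, h2⟩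
      · refine ⟨h i hi, ?_⟩
        rw [← neg_simple_eq Q.X.good Q.K hi]
        exact Q.inside_w P hi hr (h i hi)
      · have hsig := Q.X.good.sigma_spec hi hr
        obtain ⟨g1, g2⟩ := ih _ h1 hsig.1 h2
        refine ⟨?_, ?_⟩
        · have := Q.inside_w P hi hsig.1 g1
          rwa [hsig.2.2.1] at this
        · have := Q.inside_w P hi (Q.K.neg_lt hsig.1) g2
          rwa [Q.K.neg_eq _ hsig.1, (Q.X.good.sigma_spec hi hsig.1).2.2.2.1, hsig.2.2.1,
            ← Q.K.neg_eq _ hr] at this
  have hall : ∀ r, r < D.nroots → Q.Inside P r := by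
    intro r hr
    have hev := Q.ord.even
    by_cases hlt : r < D.nroots / 2
    · have := (key _ (Q.K.neg_lt hr) (by rw [Q.K.neg_eq r hr]; omega)).2
      rwa [Q.K.neg_neg hr] at this
    · exact (key r hr (by omega)).1
  rw [eq_top_iff]
  intro g _
  have hle : D.group F ≤ P.map (D.group F).subtype := by
    conv_lhs => rw [Q.K.group_eq]
    refine (Subgroup.closure_le _).2 ?_
    rintro _ ⟨r, t, hr, rfl⟩
    exact ⟨_, hall r hr t, rfl⟩
  obtain ⟨g', hg', e⟩ := hle g.2
  rwa [← Subtype.ext (a1 := g') (a2 := g) e]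

end Data

theorem perfect_of_allB {D : ChevalleyDatum} {F : Type*} [Field F] (Q : Data D F)
    (h : allB Q.X.C D Q.X.n = true) : commutator ↥(D.group F) = ⊤ := by
  simp only [allB, List.all_eq_true, List.mem_range, Bool.or_eq_true] at h
  refine Q.eq_top_of_simple _ fun i hi => ?_
  have hL : ∀ j ∈ (List.range Q.X.n).filter (fun i => stepB Q.X.C D Q.X.n [] i),
      Q.Inside (commutator ↥(D.group F)) (D.simple j) := fun j hj =>
    Q.inside_stepB _ le_rfl (by simp) (List.mem_filter.1 hj).2
  rcases h i hi with h1 | h1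
  · exact hL i (by simpa using h1)
  · exact Q.inside_stepB _ le_rfl hL h1

theorem perfect_of_allA {D : ChevalleyDatum} {F : Type*} [Field F] (Q : Data D F) (hh : Q.HConj)
    (hF : ∃ a : F, a ≠ 0 ∧ a ≠ 1) (h : allA Q.X.C D Q.X.n = true) :
    commutator ↥(D.group F) = ⊤ := by
  simp only [allA, List.all_eq_true, List.mem_range, Bool.or_eq_true] at h
  refine Q.eq_top_of_simple _ fun i hi => ?_
  have hL : ∀ j ∈ (List.range Q.X.n).filter (fun i => stepA D Q.X.n i),
      Q.Inside (commutator ↥(D.group F)) (D.simple j) := fun j hj =>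
    Q.inside_stepA _ le_rfl hh hF (List.mem_range.1 (List.mem_filter.1 hj).1) (List.mem_filter.1 hj).2
  rcases h i hi with h1 | h1
  · exact hL i (by simpa using h1)
  · exact Q.inside_stepB _ le_rfl hL h1

theorem allA_G2 : allA typeG2.C chevG2 typeG2.n = true := by decide +kernel
theorem allA_B2 : allA typeB2.C chevB2 typeB2.n = true := by decide +kernel
theorem allB_D4 : allB typeD4.C chevD4 typeD4.n = true := by decide +kernel
theorem allB_F4 : allB typeF4.C chevF4 typeF4.n = true := by decide +kernel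
theorem allB_E7 : allB typeE7.C chevE7 typeE7.n = true := by decide +kernel
theorem stepB_E8_0 : stepB typeE8.C chevE8 8 [] 0 = true :=
  List.any_eq_true.2 ⟨14, List.mem_range.2 (by decide +kernel),
    List.any_eq_true.2 ⟨233, List.mem_range.2 (by decide +kernel), by decide +kernel⟩⟩
theorem stepB_E8_1 : stepB typeE8.C chevE8 8 [] 1 = true :=
  List.any_eq_true.2 ⟨7, List.mem_range.2 (by decide +kernel),
    List.any_eq_true.2 ⟨234, List.mem_range.2 (by decide +kernel), by decide +kernel⟩⟩
theorem stepB_E8_2 : stepB typeE8.C chevE8 8 [] 2 = true :=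
  List.any_eq_true.2 ⟨6, List.mem_range.2 (by decide +kernel),
    List.any_eq_true.2 ⟨234, List.mem_range.2 (by decide +kernel), by decide +kernel⟩⟩
theorem stepB_E8_3 : stepB typeE8.C chevE8 8 [] 3 = true :=
  List.any_eq_true.2 ⟨5, List.mem_range.2 (by decide +kernel),
    List.any_eq_true.2 ⟨235, List.mem_range.2 (by decide +kernel), by decide +kernel⟩⟩
theorem stepB_E8_4 : stepB typeE8.C chevE8 8 [] 4 = true :=
  List.any_eq_true.2 ⟨4, List.mem_range.2 (by decide +kernel),
    List.any_eq_true.2 ⟨236, List.mem_range.2 (by decide +kernel), by decide +kernel⟩⟩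
theorem stepB_E8_5 : stepB typeE8.C chevE8 8 [] 5 = true :=
  List.any_eq_true.2 ⟨3, List.mem_range.2 (by decide +kernel),
    List.any_eq_true.2 ⟨237, List.mem_range.2 (by decide +kernel), by decide +kernel⟩⟩
theorem stepB_E8_6 : stepB typeE8.C chevE8 8 [] 6 = true :=
  List.any_eq_true.2 ⟨2, List.mem_range.2 (by decide +kernel),
    List.any_eq_true.2 ⟨238, List.mem_range.2 (by decide +kernel), by decide +kernel⟩⟩
theorem stepB_E8_7 : stepB typeE8.C chevE8 8 [] 7 = true :=
  List.any_eq_true.2 ⟨1, List.mem_range.2 (by decide +kernel),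
    List.any_eq_true.2 ⟨239, List.mem_range.2 (by decide +kernel), by decide +kernel⟩⟩
theorem allB_E8 : allB typeE8.C chevE8 typeE8.n = true := by
  show allB typeE8.C chevE8 8 = true
  have h : ∀ i ∈ List.range 8, stepB typeE8.C chevE8 8 [] i = true := by
    intro i hi
    rw [List.mem_range] at hi
    interval_cases i
    exacts [stepB_E8_0, stepB_E8_1, stepB_E8_2, stepB_E8_3, stepB_E8_4, stepB_E8_5, stepB_E8_6, stepB_E8_7]
  simp only [allB, List.filter_eq_self.2 h, List.all_eq_true, Bool.or_eq_true, List.contains_iff_mem]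
  exact fun i hi => Or.inl hi
theorem allB_E6 : allB typeE6.C chevE6 typeE6.n = true := by decide +kernel

end Cfsg.Agent.H37.Chev
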