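import Cfsg.Agent.H37.Chev.Sign
import Cfsg.Agent.H37.Chev.Perfect

/-!
The complete data of a group from the table certificate and the kernel check on signs.
-/
set_option autoImplicit false

namespace Cfsg.Agent.H37.Chev

open Cfsg.Lie

variable {D : ChevalleyDatum} (K : Chevalley.Cert D) (F : Type*) [Field F]

theorem torusOf : RootSys.Torus K F where
  off g hg a b hab := by
    rw [K.diagonalSubgroup_eq F] at hg
    obtain ⟨c, rfl⟩ := hg
    show (Chevalley.dU _ : GL D.Idx F).val a b = 0
    rw [Chevalley.coe_dU, Matrix.diagonal_apply_ne _ hab]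
  one g hg i := by
    rw [K.diagonalSubgroup_eq F] at hg
    obtain ⟨c, rfl⟩ := hg
    show (Chevalley.dU _ : GL D.Idx F).val (.inl i) (.inl i) = 1
    simp [Chevalley.pe]
  conj g hg r hr := by
    rw [K.diagonalSubgroup_eq F] at hg
    obtain ⟨c, rfl⟩ := hg
    rw [K.torus_eq_prod]
    induction List.finRange D.rank with
    | nil => intro t; exact ⟨t, by simp⟩
    | cons m l ih =>
        intro t
        obtain ⟨t', e⟩ := ih t
        refine ⟨((c m ^ Chevalley.pairingSum D (D.simple m) r : Fˣ) : F) * t', ?_⟩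
        rw [List.map_cons, List.prod_cons, mul_inv_rev,
          show ∀ (a b : GL D.Idx F), a * b * K.xU F r t * (b⁻¹ * a⁻¹) = a * (b * K.xU F r t * b⁻¹) * a⁻¹
            from fun a b => by group, e, K.hU_conj_xU F (K.simple_lt m m.isLt).1 hr]

/-- The data from a certificate. -/
def mkData (X : TypeData D) (hO : Ordered D) {w : ℕ → ℕ → ℕ} {sg : ℕ → ℕ → ℤ} (hw : K.w = w)
    (hsg : K.sg = sg) (h : relB D w sg X.M = true) : Data D F where
  X := X
  K := K
  T := torusOf K F
  ord := hO
  rel := rel_of_check K X.good.rank_eq X.M hw hsg h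

namespace Data

variable {F} (Q : Data D F)
include Q

theorem hConj : Q.HConj := by
  intro j hj s hs c hc t
  have := Q.K.hU_conj_xU F (Q.K.simple_lt j hj).1 hs (Units.mk0 c hc) t
  rwa [Q.K.pairing_simple hj, Units.val_zpow_eq_zpow_val, Units.val_mk0] at this

end Data

end Cfsg.Agent.H37.Chev
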