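import Cfsg.Agent.H37.RootSys.Inst
import Cfsg.Agent.Chevalley.Torus

/-!
The braid relations modulo the diagonal subgroup, from a kernel check on signs.
-/
set_option autoImplicit false

namespace Cfsg.Agent.H37.Chev

open Cfsg.Lie

/-- A word acting on signed roots. -/
def act2 (w : ℕ → ℕ → ℕ) (sg : ℕ → ℕ → ℤ) (l : List ℕ) (r : ℕ) : ℕ × ℤ :=
  l.foldr (fun i p => (w i p.1, sg i p.1 * p.2)) (r, 1)

/-- Parity sign of the torus element `h_i((-1)^a) h_j((-1)^b)`. -/
def maskSign (D : ChevalleyDatum) (i j : ℕ) (a b : Bool) (r : ℕ) : ℤ :=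
  (if a then (-1) ^ (D.cartan i r).natAbs else 1) * (if b then (-1) ^ (D.cartan j r).natAbs else 1)

/-- The kernel check. -/
def relB (D : ChevalleyDatum) (w : ℕ → ℕ → ℕ) (sg : ℕ → ℕ → ℤ) {n : ℕ}
    (M : CoxeterMatrix (Fin n)) : Bool :=
  (List.finRange n).all fun i => (List.finRange n).all fun j =>
    [(false, false), (true, false), (false, true), (true, true)].any fun ab =>
      (List.range D.nroots).all fun r =>
        act2 w sg (List.replicate (M i j) [i.val, j.val]).flatten r
          == (r, maskSign D i.val j.val ab.1 ab.2 r)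

variable {D : ChevalleyDatum} (K : Chevalley.Cert D) {F : Type*} [Field F]

theorem act2_lt {l : List ℕ} (hl : ∀ i ∈ l, i < D.rank) {r : ℕ} (hr : r < D.nroots) :
    (act2 K.w K.sg l r).1 < D.nroots := by
  induction l with
  | nil => exact hr
  | cons i l ih =>
      exact (K.w_lt i (hl i (by simp)) _ (ih fun a ha => hl a (by simp [ha]))).1

theorem word_conj {l : List ℕ} (hl : ∀ i ∈ l, i < D.rank) {r : ℕ} (hr : r < D.nroots) (t : F) :
    (l.map (K.nS F)).prod * K.xU F r t * ((l.map (K.nS F)).prod)⁻¹
      = K.xU F (act2 K.w K.sg l r).1 (((act2 K.w K.sg l r).2 : F) * t) := by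
  induction l with
  | nil => simp [act2]
  | cons i l ih =>
      have hl' : ∀ a ∈ l, a < D.rank := fun a ha => hl a (by simp [ha])
      rw [List.map_cons, List.prod_cons, show K.nS F i * (l.map (K.nS F)).prod * K.xU F r t *
        (K.nS F i * (l.map (K.nS F)).prod)⁻¹ = K.nS F i * ((l.map (K.nS F)).prod * K.xU F r t *
        ((l.map (K.nS F)).prod)⁻¹) * (K.nS F i)⁻¹ by group, ih hl',
        K.nS_conj_xU F (hl i (by simp)) (act2_lt K hl' hr)]
      simp only [act2, List.foldr_cons]
      push_cast
      ring_nf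

theorem word_mono {l : List ℕ} (hl : ∀ i ∈ l, i < D.rank) :
    (∀ (a : Fin D.rank) (s : Fin D.nroots),
      (((l.map (K.nS F)).prod : GL D.Idx F) : Matrix D.Idx D.Idx F) (.inl a) (.inr s) = 0) ∧
    (∀ (u : Fin D.nroots) (b : Fin D.rank),
      (((l.map (K.nS F)).prod : GL D.Idx F) : Matrix D.Idx D.Idx F) (.inr u) (.inl b) = 0) ∧
    (∀ (u s : Fin D.nroots),
      (((l.map (K.nS F)).prod : GL D.Idx F) : Matrix D.Idx D.Idx F) (.inr u) (.inr s)
        = if (u : ℕ) = (act2 K.w K.sg l s).1 then ((act2 K.w K.sg l s).2 : F) else 0) := by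
  induction l with
  | nil =>
      refine ⟨fun a s => by simp, fun u b => by simp, fun u s => ?_⟩
      by_cases h : u = s
      · subst h; simp [act2]
      · simp [act2, h, Fin.val_inj]
  | cons i l ih =>
      have hi := hl i (by simp)
      have hl' : ∀ a ∈ l, a < D.rank := fun a ha => hl a (by simp [ha])
      obtain ⟨h1, h2, h3⟩ := ih hl'
      simp only [List.map_cons, List.prod_cons, Units.val_mul, Matrix.mul_apply,
        Fintype.sum_sum_type, K.coe_nS F hi, Chevalley.Cert.nR, Matrix.map_apply]
      refine ⟨fun a s => ?_, fun u b => ?_, fun u s => ?_⟩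
      · simp [h1]
      · simp [h2]
      · rw [Finset.sum_eq_zero fun b _ => by simp, zero_add,
          Finset.sum_eq_single ⟨(act2 K.w K.sg l s).1, act2_lt K hl' s.isLt⟩]
        · rw [h3]
          simp only [if_true, Chevalley.Cert.nMatZ_rr, act2, List.foldr_cons]
          split_ifs with h
          · push_cast; rw [if_pos h]
          · push_cast; simp [h]
        · intro b _ hb
          rw [h3, if_neg (fun e => hb (Fin.ext e)), mul_zero]
        · simp

theorem rel_of_check {n : ℕ} (hn : D.rank = n) (M : CoxeterMatrix (Fin n)) {w : ℕ → ℕ → ℕ}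
    {sg : ℕ → ℕ → ℤ} (hw : K.w = w) (hsg : K.sg = sg) (h : relB D w sg M = true) (i j : Fin n) :
    (K.nS F i * K.nS F j) ^ M i j ∈ D.diagonalSubgroup F := by
  simp only [relB, List.all_eq_true, List.any_eq_true, List.mem_finRange, forall_const,
    List.mem_range, beq_iff_eq] at h
  obtain ⟨⟨a, b⟩, -, hab⟩ := h i j
  subst hw hsg
  set l : List ℕ := (List.replicate (M i j) [i.val, j.val]).flatten with hl
  have hi : i.val < D.rank := hn.symm ▸ i.isLt
  have hj : j.val < D.rank := hn.symm ▸ j.isLt
  have hlm : ∀ m ∈ l, m < D.rank := by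
    intro m hm
    simp only [hl, List.mem_flatten, List.mem_replicate] at hm
    obtain ⟨_, ⟨-, rfl⟩, hm⟩ := hm
    simp only [List.mem_cons, List.not_mem_nil, or_false] at hm
    rcases hm with rfl | rfl <;> assumption
  set g := (l.map (K.nS F)).prod with hg
  have hgl : g = (K.nS F i * K.nS F j) ^ M i j := by rw [hg, hl, RootSys.flatten_prod]
  set u : Bool → Fˣ := fun c => if c then -1 else 1 with hu
  set h := K.hU F (D.simple i) (u a : F) * K.hU F (D.simple j) (u b : F) with hh
  have hpi := (K.simple_lt i hi).1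
  have hpj := (K.simple_lt j hj).1
  have hhmem : h ∈ D.diagonalSubgroup F :=
    mul_mem (K.hU_mem F hpi (u a).ne_zero) (K.hU_mem F hpj (u b).ne_zero)
  have hval : ∀ (c : Bool) (z : ℤ),
      ((u c ^ z : Fˣ) : F) = ((if c then (-1) ^ z.natAbs else 1 : ℤ) : F) := by
    intro c z
    cases c
    · simp [hu]
    · simp only [hu, if_true, Units.val_zpow_eq_zpow_val, Units.val_neg, Units.val_one]
      push_cast
      rcases Int.natAbs_eq z with e | e
      · conv_lhs => rw [e, zpow_natCast]
      · conv_lhs => rw [e, zpow_neg, zpow_natCast, ← inv_pow, inv_neg, inv_one]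
  have hconj : ∀ r, r < D.nroots → ∀ t : F,
      h * K.xU F r t * h⁻¹ = g * K.xU F r t * g⁻¹ := by
    intro r hr t
    rw [hg, word_conj K hlm hr, hab r hr, hh,
      show K.hU F (D.simple i) (u a : F) * K.hU F (D.simple j) (u b : F) * K.xU F r t *
        (K.hU F (D.simple i) (u a : F) * K.hU F (D.simple j) (u b : F))⁻¹
      = K.hU F (D.simple i) (u a : F) * (K.hU F (D.simple j) (u b : F) * K.xU F r t *
        (K.hU F (D.simple j) (u b : F))⁻¹) * (K.hU F (D.simple i) (u a : F))⁻¹ by group,
      K.hU_conj_xU F hpj hr, K.hU_conj_xU F hpi hr, K.pairing_simple hi, K.pairing_simple hj,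
      hval, hval]
    congr 1
    simp only [maskSign]
    push_cast
    ring
  have hdiag : (h : Matrix D.Idx D.Idx F) = Matrix.diagonal
      (Sum.elim (fun _ => 1) fun s : Fin D.nroots => (maskSign D i j a b s : F)) := by
    rw [hh, Units.val_mul, K.hU_diag F hpi, K.hU_diag F hpj, Chevalley.hDiag, Chevalley.hDiag,
      Chevalley.coe_dU, Chevalley.coe_dU, Matrix.diagonal_mul_diagonal]
    congr 1
    funext x
    rcases x with c | s
    · simp [Chevalley.pe]
    · simp only [Chevalley.pe, Sum.elim_inr, K.pairing_simple hi, K.pairing_simple hj, hval,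
        maskSign]
      push_cast
      ring
  obtain ⟨g1, g2, g3⟩ := word_mono K (F := F) hlm
  have hgroot : ∀ x (s : Fin D.nroots), (g : Matrix D.Idx D.Idx F) x (.inr s)
      = (h : Matrix D.Idx D.Idx F) x (.inr s) := by
    intro x s
    rw [hdiag]
    rcases x with c | v
    · rw [g1, Matrix.diagonal_apply_ne _ (by simp)]
    · rw [g3, hab s s.isLt]
      by_cases e : v = s
      · subst e; simp
      · simp [e, Fin.val_inj]
  have key : ∀ (c m : Fin D.rank), (g : Matrix D.Idx D.Idx F) (.inl c) (.inl m)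
      = if c = m then 1 else 0 := by
    intro c m
    have hm := (K.simple_lt m m.isLt).1
    set r := D.simple m
    set s : Fin D.nroots := ⟨D.neg r, K.neg_lt hm⟩
    obtain ⟨t', ht'⟩ : ∃ t', g * K.xU F r 1 * g⁻¹ = K.xU F r t' :=
      ⟨_, by rw [hg, word_conj K hlm hm, hab r hm]⟩
    have e : h * K.xU F r 1 * h⁻¹ = K.xU F r t' := (hconj r hm 1).trans ht'
    have eg : (g : Matrix D.Idx D.Idx F) * D.x F r 1 = D.x F r t' * (g : Matrix D.Idx D.Idx F) := by
      have := congrArg Units.val (mul_inv_eq_iff_eq_mul.1 ht')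
      simpa using this
    have eh : (h : Matrix D.Idx D.Idx F) * D.x F r 1 = D.x F r t' * (h : Matrix D.Idx D.Idx F) := by
      have := congrArg Units.val (mul_inv_eq_iff_eq_mul.1 e)
      simpa using this
    have e2 : ((g : Matrix D.Idx D.Idx F) * D.x F r 1) (.inl c) (.inr s)
        = ((h : Matrix D.Idx D.Idx F) * D.x F r 1) (.inl c) (.inr s) := by
      rw [eg, eh, Matrix.mul_apply, Matrix.mul_apply]
      exact Finset.sum_congr rfl fun y _ => by rw [hgroot]
    simp only [Matrix.mul_apply, Fintype.sum_sum_type, hgroot (Sum.inl c), zero_mul, Finset.sum_const_zero,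
      add_zero, RootSys.x_inl_inr K hm, show (s : ℕ) = D.neg r from rfl, if_true, mul_one] at e2
    rw [hdiag] at e2
    simp only [Matrix.diagonal_apply, reduceCtorEq, if_false, zero_mul, Finset.sum_const_zero,
      add_zero, Sum.inl.injEq, Sum.elim_inl] at e2
    have hcor : ∀ y : Fin D.rank, (Chevalley.cor D r y : F) = if y = m then 1 else 0 := by
      intro y
      rw [K.cor_simple m m.isLt y y.isLt]
      simp [Fin.val_inj]
    simp only [hcor, mul_ite, mul_one, mul_zero, Finset.sum_ite_eq', Finset.mem_univ, if_true] at e2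
    exact e2
  have : g = h := by
    refine Units.ext ?_
    ext x y
    rcases y with m | s
    · rw [hdiag]
      rcases x with c | v
      · rw [key]; simp [Matrix.diagonal_apply]
      · rw [g2, Matrix.diagonal_apply_ne _ (by simp)]
    · exact hgroot x s
  rw [← hgl, this]
  exact hhmem

end Cfsg.Agent.H37.Chev
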