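import Cfsg.Agent.H37.Chev.Types

/-!
The split Tits system of a tabulated Chevalley group: identification of `U`, `B`, `N`, `H`, the
longest element, orders of the cells.
-/
set_option autoImplicit false

namespace Cfsg.Agent.H37.Chev

open Cfsg.Lie Cfsg.Agent.H37.RootSys

/-- Everything known about one group. -/
structure Data (D : ChevalleyDatum) (F : Type*) [Field F] where
  X : TypeData D
  K : Chevalley.Cert D
  T : RootSys.Torus K F
  ord : Ordered D
  rel : ∀ i j : Fin X.n, (K.nS F i * K.nS F j) ^ X.M i j ∈ D.diagonalSubgroup F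

namespace Data

variable {D : ChevalleyDatum} {F : Type*} [Field F] (Q : Data D F)

/-- The root-subgroup system. -/
def sys : RootSys.Sys Q.X.good ↥(D.group F) F := RootSys.sys Q.X.good Q.K Q.T Q.X.climb Q.ord Q.rel

/-- The split Tits system. -/
noncomputable def amb : Tits.Ambient ↥(D.group F) Q.X.M.Group := Q.sys.ambient

theorem rank_eq : D.rank = Q.X.n := Q.X.good.rank_eq

theorem amb_U : Q.amb.U = (D.posUnipotent F).subgroupOf (D.group F) := by
  refine le_antisymm (XS_le fun r hr t => ?_) ?_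
  · rw [Subgroup.mem_subgroupOf]
    refine Subgroup.subset_closure ⟨r, t, (Q.ord.isPosRoot_iff r).2 (mem_posSet.1 hr), rfl⟩
  · intro g hg
    rw [Subgroup.mem_subgroupOf] at hg
    have hle : D.posUnipotent F ≤ Q.amb.U.map (D.group F).subtype := by
      refine (Subgroup.closure_le _).2 ?_
      rintro h ⟨r, t, hr, hh⟩
      refine ⟨xG Q.K F r t, x_mem_XS (Finset.mem_coe.2 (mem_posSet.2 ((Q.ord.isPosRoot_iff r).1 hr))) t, ?_⟩
      exact Units.ext hh.symm
    obtain ⟨g', hg', e⟩ := hle hg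
    rwa [← Subtype.ext (a1 := g') (a2 := g) e]

theorem amb_H : Q.amb.H = (D.diagonalSubgroup F).subgroupOf (D.group F) := rfl

theorem amb_B : Q.amb.B = (D.borelSubgroup F).subgroupOf (D.group F) := by
  rw [Q.amb.B_eq_sup, Q.amb_U, Q.amb_H, ChevalleyDatum.borelSubgroup,
    Subgroup.subgroupOf_sup posUnipotent_le_group (diagonal_le_group Q.ord)]

theorem nS_eq (i : ℕ) : Q.K.nS F i = nGL Q.ord (D.simple i) 1 :=
  Units.ext ((Q.K.coe_nU F _ _).trans (coe_nGL Q.ord _ _).symm)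

theorem nS_mem_monomial {i : ℕ} (hi : i < D.rank) : Q.K.nS F i ∈ D.monomialSubgroup F := by
  rw [Q.nS_eq]
  exact nGL_mem_monomial Q.ord (Q.K.simple_lt i hi).1 one_ne_zero

theorem rep_mem_monomial (w : Q.X.M.Group) :
    ((Q.sys.rep w : ↥(D.group F)) : GL D.Idx F) ∈ D.monomialSubgroup F := by
  refine Sys.gen_induction (p := fun w => ((Q.sys.rep w : ↥(D.group F)) : GL D.Idx F) ∈
    D.monomialSubgroup F) ?_ ?_ w
  · rw [Q.sys.rep_one]; exact one_mem _
  · intro i w ih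
    obtain ⟨h, hh, e⟩ := Q.sys.ns_rep (i := i) w
    have e' := congrArg (Subtype.val (p := fun g => g ∈ D.group F)) e
    rw [Subgroup.coe_mul, Subgroup.coe_mul] at e'
    have hn : ((Q.sys.ns i : ↥(D.group F)) : GL D.Idx F) ∈ D.monomialSubgroup F :=
      Q.nS_mem_monomial (Q.rank_eq.symm ▸ i.isLt)
    have hh' : ((h : ↥(D.group F)) : GL D.Idx F) ∈ D.monomialSubgroup F :=
      Subgroup.mem_sup_left (show ((h : ↥(D.group F)) : GL D.Idx F) ∈ D.diagonalSubgroup F from hh)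
    have : ((Q.sys.rep (Q.X.M.simple i * w) : ↥(D.group F)) : GL D.Idx F)
        = ((h : ↥(D.group F)) : GL D.Idx F)⁻¹ *
          (((Q.sys.ns i : ↥(D.group F)) : GL D.Idx F) * ((Q.sys.rep w : ↥(D.group F)) : GL D.Idx F)) := by
      rw [e']; group
    rw [this]
    exact mul_mem (inv_mem hh') (mul_mem hn ih)

theorem nU_mem_N : ∀ r, r < D.nroots → D.nroots / 2 ≤ r →
    (⟨Q.K.nU F r 1, Q.K.wU_mem F fun p _ => Q.K.xU_mem_group F p.1 p.2⟩ : ↥(D.group F)) ∈ Q.amb.N ∧
    (⟨Q.K.nU F (D.neg r) 1, Q.K.wU_mem F fun p _ => Q.K.xU_mem_group F p.1 p.2⟩ :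
      ↥(D.group F)) ∈ Q.amb.N := by
  intro r
  have hns : ∀ i, i < Q.X.n → nG Q.K F i ∈ Q.amb.N := by
    intro i hi
    obtain ⟨h, hh, e⟩ := Q.sys.rep_simple ⟨i, hi⟩
    have : nG Q.K F i = h⁻¹ * Q.sys.rep (Q.X.M.simple ⟨i, hi⟩) := by
      rw [e, inv_mul_cancel_left]; rfl
    rw [this]
    exact mul_mem (Q.amb.H_le_N (inv_mem hh)) (Q.amb.n_mem_N _)
  have key : ∀ i, i < Q.X.n → ∀ s, s < D.nroots →
      (⟨Q.K.nU F s 1, Q.K.wU_mem F fun p _ => Q.K.xU_mem_group F p.1 p.2⟩ : ↥(D.group F)) ∈ Q.amb.N →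
      (⟨Q.K.nU F (Q.K.w i s) 1, Q.K.wU_mem F fun p _ => Q.K.xU_mem_group F p.1 p.2⟩ :
        ↥(D.group F)) ∈ Q.amb.N := by
    intro i hi s hs h
    have hi' : i < D.rank := Q.rank_eq.symm ▸ hi
    have hm := mul_mem (mul_mem (hns i hi) h) (inv_mem (hns i hi))
    have e := Q.K.nS_conj_nU F hi' hs 1
    rw [mul_one] at e
    rcases Q.K.sg_pm i s with h1 | h1
    · convert hm using 1
      refine Subtype.ext ?_
      show Q.K.nU F _ 1 = Q.K.nS F i * Q.K.nU F s 1 * (Q.K.nS F i)⁻¹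
      rw [e, h1]; simp
    · convert inv_mem hm using 1
      refine Subtype.ext ?_
      show Q.K.nU F _ 1 = (Q.K.nS F i * Q.K.nU F s 1 * (Q.K.nS F i)⁻¹)⁻¹
      rw [e, h1, Q.K.nU_inv]; simp
  induction r using Nat.strong_induction_on with
  | _ r ih =>
    intro hr hp
    rcases Q.X.climb r hr hp with ⟨i, hi, rfl⟩ | ⟨i, hi, h1, h2⟩
    · refine ⟨hns i hi, ?_⟩
      have hi' : i < D.rank := Q.rank_eq.symm ▸ hi
      have := key i hi _ hr (hns i hi)
      convert this using 4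
      rw [← sigma_eq_w Q.X.good Q.K hi hr, neg_simple_eq Q.X.good Q.K hi]
    · have hi' : i < D.rank := Q.rank_eq.symm ▸ hi
      have hs : Q.X.C.sigma i r < D.nroots := (Q.X.good.sigma_spec hi hr).1
      obtain ⟨ha, hb⟩ := ih _ h1 hs h2
      refine ⟨?_, ?_⟩
      · have := key i hi _ hs ha
        convert this using 4
        rw [sigma_eq_w Q.X.good Q.K hi hr, (Q.K.w_lt i hi' r hr).2]
      · have := key i hi _ (Q.K.neg_lt hs) hb
        convert this using 4
        rw [sigma_eq_w Q.X.good Q.K hi hr, Q.K.w_neg hi' (Q.K.w_lt i hi' r hr).1,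
          (Q.K.w_lt i hi' r hr).2]

theorem amb_N : Q.amb.N = (D.monomialSubgroup F).subgroupOf (D.group F) := by
  refine le_antisymm ?_ ?_
  · rintro g ⟨h, hh, w, rfl⟩
    rw [Subgroup.mem_subgroupOf, Subgroup.coe_mul]
    exact mul_mem (Subgroup.mem_sup_left (show ((h : ↥(D.group F)) : GL D.Idx F) ∈
      D.diagonalSubgroup F from hh)) (Q.rep_mem_monomial w)
  · intro g hg
    rw [Subgroup.mem_subgroupOf] at hg
    have hle : D.monomialSubgroup F ≤ Q.amb.N.map (D.group F).subtype := by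
      refine sup_le (fun h hh => ⟨⟨h, diagonal_le_group Q.ord hh⟩, Q.amb.H_le_N hh, rfl⟩)
        ((Subgroup.closure_le _).2 ?_)
      rintro h ⟨r, hr, hh⟩
      refine ⟨⟨Q.K.nU F r 1, Q.K.wU_mem F fun p _ => Q.K.xU_mem_group F p.1 p.2⟩, ?_,
        Units.ext ((Q.K.coe_nU F r 1).trans hh.symm)⟩
      rcases Nat.lt_or_ge r (D.nroots / 2) with h1 | h1
      · have := (Q.nU_mem_N (D.neg r) (Q.K.neg_lt hr)
          (by rw [Q.K.neg_eq r hr]; have := Q.ord.even; omega)).2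
        simp only [Q.K.neg_neg hr] at this
        exact this
      · exact (Q.nU_mem_N r hr h1).1
    obtain ⟨g', hg', e⟩ := hle hg
    rwa [← Subtype.ext (a1 := g') (a2 := g) e]

theorem simple_inj {i j : Fin Q.X.n} (h : D.simple i = D.simple j) : i = j := by
  have hi : i.val < D.rank := Q.rank_eq.symm ▸ i.isLt
  have hj : j.val < D.rank := Q.rank_eq.symm ▸ j.isLt
  have h1 := Q.K.cf_simple i hi i hi
  rw [h, Q.K.cf_simple j hj i hi] at h1
  by_contra hne
  have : ¬ i.val = j.val := fun e => hne (Fin.ext e)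
  simp [this] at h1

theorem rep_simple (i : Fin Q.X.n) : Q.sys.rep (Q.X.M.simple i) = nG Q.K F i :=
  Q.sys.rep_simple_eq i fun _ hj => Q.simple_inj hj

theorem amb_S :
    Q.amb.n '' Q.amb.S = {n : ↥(D.group F) | ∃ i < D.rank,
      ((n : GL D.Idx F) : Matrix D.Idx D.Idx F) = D.nMat F (D.simple i) 1} := by
  ext g
  constructor
  · rintro ⟨_, ⟨i, rfl⟩, rfl⟩
    refine ⟨i, Q.rank_eq.symm ▸ i.isLt, ?_⟩
    show (((Q.sys.rep (Q.X.M.simple i) : ↥(D.group F)) : GL D.Idx F) : Matrix D.Idx D.Idx F) = _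
    rw [Q.rep_simple]
    exact Q.K.coe_nU F _ _
  · rintro ⟨i, hi, hg⟩
    refine ⟨Q.X.M.simple ⟨i, Q.rank_eq ▸ hi⟩, ⟨_, rfl⟩, ?_⟩
    show Q.sys.rep _ = g
    rw [Q.rep_simple]
    exact Subtype.ext (Units.ext ((Q.K.coe_nU F _ _).trans hg.symm))

theorem Uw_w0 : Q.amb.Uw Q.X.w0 = Q.amb.U := by
  refine le_antisymm (Q.amb.Uw_le _) (XS_mono ?_)
  intro r hr
  obtain ⟨h1, h2⟩ := mem_posSet.1 hr
  exact Sys.mem_flip.2 ⟨h1, h2, Q.X.w0_neg h1 h2⟩

theorem card_U : Nat.card Q.amb.U = Nat.card F ^ (D.nroots / 2) := Q.sys.card_U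

theorem card_Uw (w : Q.X.M.Group) : Nat.card (Q.amb.Uw w) = Nat.card F ^ Q.X.good.inv w :=
  Q.sys.card_Uw w

theorem card_H : Nat.card Q.amb.H = Nat.card (D.diagonalSubgroup F) :=
  Nat.card_congr (Subgroup.subgroupOfEquivOfLe (diagonal_le_group Q.ord)).toEquiv

/-- `U` sees all of `H`. -/
theorem faithful {h : GL D.Idx F} (hh : h ∈ D.diagonalSubgroup F)
    (hc : ∀ r, r < D.nroots → D.nroots / 2 ≤ r → h * Q.K.xU F r 1 = Q.K.xU F r 1 * h) : h = 1 := by
  have key : ∀ r : Fin D.nroots, D.nroots / 2 ≤ r.val →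
      ∀ s : Fin D.nroots, s.val = D.neg r.val →
      (h : Matrix D.Idx D.Idx F) (.inr s) (.inr s) = 1 := by
    intro r hr s hs
    by_contra hne
    have h1 : ∀ i, i < D.rank → (Chevalley.cor D r i : F) * (1 - (h : Matrix D.Idx D.Idx F) (.inr s) (.inr s)) = 0 := by
      intro i hi
      have e := congrArg (fun g : GL D.Idx F => (g : Matrix D.Idx D.Idx F) (.inl ⟨i, hi⟩) (.inr s))
        (hc r.val r.isLt hr)
      simp only [Units.val_mul, Matrix.mul_apply] at e
      rw [Finset.sum_eq_single (Sum.inl ⟨i, hi⟩) (fun c _ hne => by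
          rw [Q.T.off _ hh _ c (Ne.symm hne), zero_mul]) (by simp),
        Finset.sum_eq_single (Sum.inr s) (fun c _ hne => by
          rw [Q.T.off _ hh c _ hne, mul_zero]) (by simp),
        Q.T.one _ hh, Chevalley.Cert.coe_xU, x_inl_inr Q.K r.isLt, if_pos hs] at e
      linear_combination e
    exact hne (sub_eq_zero.1 (cor_zero Q.K r.isLt h1)).symm
  have hconj : ∀ r : Fin D.nroots, D.nroots / 2 ≤ r.val →
      (h : Matrix D.Idx D.Idx F) (.inr r) (.inr r) = 1 := by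
    intro r hr
    -- the entry `(r, -r)` of `x_r(1)` is `-1`
    set s : Fin D.nroots := ⟨D.neg r.val, Q.K.neg_lt r.isLt⟩
    have e := congrArg (fun g : GL D.Idx F => (g : Matrix D.Idx D.Idx F) (.inr r) (.inr s))
      (hc r.val r.isLt hr)
    simp only [Units.val_mul, Matrix.mul_apply] at e
    rw [Finset.sum_eq_single (Sum.inr r) (fun c _ hne => by
        rw [Q.T.off _ hh _ c (Ne.symm hne), zero_mul]) (by simp),
      Finset.sum_eq_single (Sum.inr s) (fun c _ hne => by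
        rw [Q.T.off _ hh c _ hne, mul_zero]) (by simp),
      key r hr s rfl, mul_one] at e
    have hx : (Q.K.xU F r.val (1 : F) : Matrix D.Idx D.Idx F) (.inr r) (.inr s) = -1 := by
      have hne : ¬ (r : ℕ) = D.neg r := (Q.K.neg_ne r.isLt).symm
      have hnone : ∀ k, D.chainRoot r.val (D.neg r.val) k = none := fun k => by
        simp [ChevalleyDatum.chainRoot, (Q.K.rowOK r.isLt).chain_neg]
      rw [Chevalley.Cert.coe_xU, Q.K.x_eq r.isLt]
      simp [Chevalley.xR, Chevalley.entUS, Finset.sum_range_succ, hne, s, hnone]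
    rw [hx] at e
    linear_combination -e
  refine Units.ext ?_
  ext a b
  rw [Units.val_one]
  by_cases hab : a = b
  · subst hab
    rw [Matrix.one_apply_eq]
    rcases a with i | s
    · exact Q.T.one _ hh i
    · rcases Nat.lt_or_ge s.val (D.nroots / 2) with hs | hs
      · refine key ⟨D.neg s.val, Q.K.neg_lt s.isLt⟩ ?_ s (Q.K.neg_neg s.isLt).symm
        show D.nroots / 2 ≤ D.neg s.val
        rw [Q.K.neg_eq _ s.isLt]
        have := Q.ord.even
        omega
      · exact hconj s hs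
  · rw [Matrix.one_apply_ne hab]; exact Q.T.off _ hh a b hab

theorem core_eq_bot : Q.amb.B.normalCore = ⊥ := by
  refine Q.amb.core_eq_bot Q.Uw_w0 fun h hh hc => ?_
  refine Subtype.ext (Q.faithful (show (h : GL D.Idx F) ∈ D.diagonalSubgroup F from hh) ?_)
  intro r hr hp
  exact congrArg Subtype.val (hc (xG Q.K F r 1) (Q.sys.x_mem_U hr hp 1))

theorem irred : ∀ J ⊆ Q.amb.S, J.Nonempty → (Q.amb.S \ J).Nonempty →
    ∃ s ∈ J, ∃ t ∈ Q.amb.S \ J, s * t ≠ t * s := fun J hJ h1 h2 => Q.X.irred J hJ h1 h2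

theorem U_ne_bot : Q.amb.U ≠ ⊥ := by
  intro h
  have hlt : 0 < Q.X.n := Q.rank_eq ▸ Q.ord.rank_pos
  have hs := Q.X.good.simple_spec hlt
  have hm : Q.sys.x (D.simple 0) 1 ∈ Q.amb.U := Q.sys.x_mem_U hs.2.1 hs.1 1
  rw [h, Subgroup.mem_bot] at hm
  exact Q.sys.x_one_ne hs.2.1 hs.1 hm

end Data

end Cfsg.Agent.H37.Chev
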