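import Cfsg.Agent.H37.Chev.Types

/-!
Supports of roots: the coroot coefficients and the root coefficients of a root vanish together.
-/
set_option autoImplicit false

namespace Cfsg.Agent.H37.Chev

open Cfsg.Lie Cfsg.Agent.Chevalley

/-- Descent of a positive root inside its support; negation negates the coroot. -/
def supB (C : Weyl.Cert) (D : ChevalleyDatum) (n : ℕ) : Bool :=
  (List.range D.nroots).all fun r =>
    ((List.range n).all fun i => cor D (D.neg r) i == -cor D r i) &&
    (decide (r < D.nroots / 2) || (List.range n).any fun i => !(cor D r i == 0) &&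
      ((r == D.simple i) || (decide (C.sigma i r < r) && decide (D.nroots / 2 ≤ C.sigma i r))))

/-- The property checked by `supB`. -/
def Sup (C : Weyl.Cert) (D : ChevalleyDatum) (n : ℕ) : Prop :=
  (∀ r, r < D.nroots → ∀ i, i < n → cor D (D.neg r) i = -cor D r i) ∧
  ∀ r, r < D.nroots → D.nroots / 2 ≤ r → ∃ i, i < n ∧ cor D r i ≠ 0 ∧
    (r = D.simple i ∨ (C.sigma i r < r ∧ D.nroots / 2 ≤ C.sigma i r))

theorem sup_of_check {C : Weyl.Cert} {D : ChevalleyDatum} {n : ℕ} (h : supB C D n = true) :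
    Sup C D n := by
  simp only [supB, List.all_eq_true, List.any_eq_true, List.mem_range, Bool.and_eq_true,
    Bool.or_eq_true, decide_eq_true_eq, beq_iff_eq, Bool.not_eq_true', beq_eq_false_iff_ne] at h
  refine ⟨fun r hr => (h r hr).1, fun r hr hp => ?_⟩
  rcases (h r hr).2 with h' | ⟨i, hi, h1, h2⟩
  · omega
  · exact ⟨i, hi, h1, h2⟩

theorem supB_B2 : supB typeB2.C chevB2 typeB2.n = true := by decide +kernel
theorem supB_G2 : supB typeG2.C chevG2 typeG2.n = true := by decide +kernel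
theorem supB_D4 : supB typeD4.C chevD4 typeD4.n = true := by decide +kernel
theorem supB_F4 : supB typeF4.C chevF4 typeF4.n = true := by decide +kernel
theorem supB_E6 : supB typeE6.C chevE6 typeE6.n = true := by decide +kernel
theorem supB_E7 : supB typeE7.C chevE7 typeE7.n = true := by decide +kernel
theorem supB_E8 : supB typeE8.C chevE8 typeE8.n = true := by decide +kernel

theorem exists_type_sup {D : ChevalleyDatum}
    (hD : D ∈ [chevG2, chevB2, chevD4, chevF4, chevE6, chevE7, chevE8]) :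
    ∃ X : TypeData D, Sup X.C D X.n := by
  simp only [List.mem_cons, List.not_mem_nil, or_false] at hD
  rcases hD with rfl | rfl | rfl | rfl | rfl | rfl | rfl
  exacts [⟨typeG2, sup_of_check supB_G2⟩, ⟨typeB2, sup_of_check supB_B2⟩,
    ⟨typeD4, sup_of_check supB_D4⟩, ⟨typeF4, sup_of_check supB_F4⟩, ⟨typeE6, sup_of_check supB_E6⟩,
    ⟨typeE7, sup_of_check supB_E7⟩, ⟨typeE8, sup_of_check supB_E8⟩]

variable {D : ChevalleyDatum} {n : ℕ} {M : CoxeterMatrix (Fin n)} {C : Weyl.Cert}
  (hC : Weyl.Good C D M) (K : Chevalley.Cert D) (hS : Sup C D n)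
include hC K hS

theorem support : ∀ r, r < D.nroots → D.nroots / 2 ≤ r → ∀ m, m < D.rank →
    0 ≤ K.cf r m ∧ (cor D r m = 0 ↔ K.cf r m = 0) := by
  intro r
  induction r using Nat.strong_induction_on with
  | _ r ih =>
    intro hr hp m hm
    obtain ⟨i, hi, hne, h⟩ := hS.2 r hr hp
    have hi' : i < D.rank := hC.rank_eq.symm ▸ hi
    rcases h with rfl | ⟨h1, h2⟩
    · rw [K.cf_simple i hi' m hm, K.cor_simple i hi' m hm]
      split_ifs <;> simp
    · rw [RootSys.sigma_eq_w hC K hi hr] at h1 h2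
      have hw := K.w_lt i hi' r hr
      have hw' : K.w i r < D.nroots := hw.1
      have e : ∀ j, j < D.rank → j ≠ i → K.cf (K.w i r) j = K.cf r j := fun j hj hji => by
        rw [K.cf_w i hi' r hr j hj, if_neg hji, sub_zero]
      have hiv : 0 < K.cf r i := by
        have h0 := (ih _ h1 hw' h2 i hi').1
        rw [K.cf_w i hi' r hr i hi', if_pos rfl] at h0
        have hcode : K.code (K.w i r) < K.code r := K.code_mono h1 hr
        have hlin : K.code (K.w i r) = 1 * K.code r + (-D.cartan i r) * K.code (D.simple i) :=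
          K.code_lin hw' hr (K.simple_lt i hi').1 fun j hj => by
            rw [K.cf_w i hi' r hr j hj, K.cf_simple i hi' j hj]
            split_ifs <;> ring
        have hp' := RootSys.code_pos_of_le K (K.simple_lt i hi').1 (K.simple_lt i hi').2
        nlinarith
      by_cases hmi : m = i
      · subst hmi
        exact ⟨hiv.le, ⟨fun h0 => absurd h0 hne, fun h0 => by omega⟩⟩
      · obtain ⟨g1, g2⟩ := ih _ h1 hw' h2 m hm
        rw [e m hm hmi] at g1 g2
        rw [K.cor_w i hi' r hr m hm, if_neg hmi, sub_zero] at g2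
        exact ⟨g1, g2⟩

theorem cor_iff {r m : ℕ} (hr : r < D.nroots) (hm : m < D.rank) :
    cor D r m = 0 ↔ K.cf r m = 0 := by
  by_cases hp : D.nroots / 2 ≤ r
  · exact (support hC K hS r hr hp m hm).2
  · have h1 := support hC K hS (D.neg r) (K.neg_lt hr)
      (by rw [K.neg_eq r hr]; have := hC.even; omega) m hm
    rw [hS.1 r hr m (hC.rank_eq ▸ hm), K.cf_neg r hr m hm] at h1
    constructor <;> intro h
    · have := h1.2.1 (by omega); omega
    · have := h1.2.2 (by omega); omega

theorem inRootSub_iff {J : Set ℕ} {r : ℕ} :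
    D.InRootSub J r ↔ r < D.nroots ∧ ∀ m < D.rank, m ∉ J → K.cf r m = 0 :=
  and_congr_right fun hr => forall_congr' fun m => ⟨fun h hm hJ => (cor_iff hC K hS hr hm).1 (h hm hJ),
    fun h hm hJ => (cor_iff hC K hS hr hm).2 (h hm hJ)⟩

theorem inRootSub_neg {J : Set ℕ} {r : ℕ} (h : D.InRootSub J r) : D.InRootSub J (D.neg r) :=
  ⟨K.neg_lt h.1, fun i hi hJ => by
    show cor D (D.neg r) i = 0
    rw [hS.1 r h.1 i (hC.rank_eq ▸ hi)]
    simpa [cor] using h.2 i hi hJ⟩

/-- Descent of a positive root of a subsystem inside the subsystem. -/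
theorem descend {J : Set ℕ} {r : ℕ} (h : D.InRootSub J r) (hp : D.nroots / 2 ≤ r) :
    (∃ i, i < n ∧ i ∈ J ∧ r = D.simple i) ∨ ∃ i, i < n ∧ i ∈ J ∧ C.sigma i r < r ∧
      D.nroots / 2 ≤ C.sigma i r ∧ D.InRootSub J (C.sigma i r) := by
  obtain ⟨i, hi, hne, hh⟩ := hS.2 r h.1 hp
  have hi' : i < D.rank := hC.rank_eq.symm ▸ hi
  have hiJ : i ∈ J := by
    by_contra hJ
    exact hne (h.2 i hi' hJ)
  rcases hh with rfl | ⟨h1, h2⟩
  · exact Or.inl ⟨i, hi, hiJ, rfl⟩
  · refine Or.inr ⟨i, hi, hiJ, h1, h2, (hC.sigma_spec hi h.1).1, fun m hm hJ => ?_⟩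
    have hmi : m ≠ i := fun e => hJ (e ▸ hiJ)
    show cor D (C.sigma i r) m = 0
    rw [RootSys.sigma_eq_w hC K hi h.1, K.cor_w i hi' r h.1 m hm, if_neg hmi, sub_zero]
    exact h.2 m hm hJ

end Cfsg.Agent.H37.Chev
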