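import Cfsg.Agent.H37.Weyl.Summary
import Cfsg.Agent.H37.RootSys.Inst

/-!
Per type: the Weyl certificate, the climbing property, the longest element, irreducibility.
-/
set_option autoImplicit false

namespace Cfsg.Agent.H37.Chev

open Cfsg.Lie

/-- The word of the longest element read off the certificate. -/
def longWord (C : Weyl.Cert) (n : ℕ) : List ℕ :=
  ((List.range n).map fun k => (Weyl.lev C k).words.foldr
    (fun w b => if b.length ≤ w.length then w else b) []).flatten

/-- The kernel checks: longest word and irreducibility. -/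
def extraB (C : Weyl.Cert) (D : ChevalleyDatum) (n : ℕ) : Bool :=
  RootSys.climbB C D n &&
  ((longWord C n).all fun i => decide (i < n)) &&
  ((List.range D.nroots).all fun r =>
    decide (r < D.nroots / 2) || decide (C.act (longWord C n) r < D.nroots / 2)) &&
  ((List.range (2 ^ n)).all fun m => (m == 0) || (m + 1 == 2 ^ n) ||
    (List.range n).any fun i => m.testBit i && (List.range n).any fun j => !m.testBit j &&
      (List.range D.nroots).any fun r => !(C.sigma i (C.sigma j r) == C.sigma j (C.sigma i r)))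

/-- The Weyl data of a type. -/
structure TypeData (D : ChevalleyDatum) where
  n : ℕ
  M : CoxeterMatrix (Fin n)
  C : Weyl.Cert
  good : Weyl.Good C D M
  extra : extraB C D n = true

def typeB2 : TypeData chevB2 := ⟨2, CoxeterMatrix.B 2, Weyl.certB2, Weyl.goodB2, by decide +kernel⟩
def typeG2 : TypeData chevG2 := ⟨2, CoxeterMatrix.G₂, Weyl.certG2, Weyl.goodG2, by decide +kernel⟩
def typeD4 : TypeData chevD4 := ⟨4, coxeterD4, Weyl.certD4, Weyl.goodD4, by decide +kernel⟩
def typeF4 : TypeData chevF4 := ⟨4, CoxeterMatrix.F₄, Weyl.certF4, Weyl.goodF4, by decide +kernel⟩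
def typeE6 : TypeData chevE6 := ⟨6, CoxeterMatrix.E₆, Weyl.certE6, Weyl.goodE6, by decide +kernel⟩
def typeE7 : TypeData chevE7 := ⟨7, CoxeterMatrix.E₇, Weyl.certE7, Weyl.goodE7, by decide +kernel⟩
def typeE8 : TypeData chevE8 := ⟨8, CoxeterMatrix.E₈, Weyl.certE8, Weyl.goodE8, by decide +kernel⟩

theorem exists_type {D : ChevalleyDatum}
    (hD : D ∈ [chevG2, chevB2, chevD4, chevF4, chevE6, chevE7, chevE8]) : Nonempty (TypeData D) := by
  simp only [List.mem_cons, List.not_mem_nil, or_false] at hD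
  rcases hD with rfl | rfl | rfl | rfl | rfl | rfl | rfl
  exacts [⟨typeG2⟩, ⟨typeB2⟩, ⟨typeD4⟩, ⟨typeF4⟩, ⟨typeE6⟩, ⟨typeE7⟩, ⟨typeE8⟩]

namespace TypeData

variable {D : ChevalleyDatum} (X : TypeData D)

theorem climb : RootSys.Climb X.C D X.n := by
  have h := X.extra
  simp only [extraB, Bool.and_eq_true] at h
  exact RootSys.climb_of_check h.1.1.1

/-- The longest element. -/
noncomputable def w0 : X.M.Group := Weyl.wOf X.M (longWord X.C X.n)

theorem w0_neg {r : ℕ} (hr : r < D.nroots) (hp : D.nroots / 2 ≤ r) :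
    (X.good.hom X.w0 ⟨r, hr⟩).val < D.nroots / 2 := by
  have h := X.extra
  simp only [extraB, Bool.and_eq_true, List.all_eq_true, List.mem_range, Bool.or_eq_true,
    decide_eq_true_eq] at h
  rw [w0, X.good.hom_wOf_val h.1.1.2]
  rcases h.1.2 r hr with h1 | h1
  · omega
  · exact h1

/-- The fundamental reflections cannot be split into two commuting parts. -/
theorem irred (J : Set X.M.Group) (hJ : J ⊆ Set.range X.M.simple) (h1 : J.Nonempty)
    (h2 : (Set.range X.M.simple \ J).Nonempty) :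
    ∃ s ∈ J, ∃ t ∈ Set.range X.M.simple \ J, s * t ≠ t * s := by
  classical
  set mem : ℕ → Prop := fun i => ∃ hi : i < X.n, X.M.simple ⟨i, hi⟩ ∈ J
  set m := ∑ i ∈ (Finset.range X.n).filter mem, 2 ^ i with hm
  have hbit : ∀ i, i < X.n → (m.testBit i = true ↔ mem i) := by
    intro i hi
    rw [← Nat.mem_bitIndices, ← List.mem_toFinset, hm, Finset.toFinset_bitIndices_sum_two_pow,
      Finset.mem_filter, Finset.mem_range]
    exact ⟨fun h => h.2, fun h => ⟨hi, h⟩⟩
  have hlt : m < 2 ^ X.n :=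
    Nat.lt_pow_two_of_testBit m fun i hi => by
      by_contra hne
      rw [Bool.not_eq_false, ← Nat.mem_bitIndices, ← List.mem_toFinset, hm,
        Finset.toFinset_bitIndices_sum_two_pow, Finset.mem_filter, Finset.mem_range] at hne
      omega
  obtain ⟨x, hx⟩ := h1
  obtain ⟨⟨i, hi⟩, rfl⟩ := hJ hx
  have hi' : m.testBit i = true := (hbit i hi).2 ⟨hi, hx⟩
  obtain ⟨_, ⟨⟨j, hj⟩, rfl⟩, hjJ⟩ := h2
  have hj' : ¬ m.testBit j = true := fun h => hjJ ((hbit j hj).1 h).2
  have hfull : m + 1 ≠ 2 ^ X.n := by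
    intro h
    have hm' : m = 2 ^ X.n - 1 := by omega
    apply hj'
    rw [hm', Nat.testBit_two_pow_sub_one]
    simpa using hj
  have h0 : m ≠ 0 := by rintro h; rw [h] at hi'; simp at hi'
  have h := X.extra
  simp only [extraB, Bool.and_eq_true, List.all_eq_true, List.any_eq_true, List.mem_range,
    Bool.or_eq_true, beq_iff_eq, Bool.not_eq_true', beq_eq_false_iff_ne] at h
  rcases h.2 m hlt with (h3 | h3) | ⟨a, ha, hbit_a, b, hb, hbit_b, r, hr, hne⟩
  · exact absurd h3 h0
  · exact absurd h3 hfull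
  refine ⟨X.M.simple ⟨a, ha⟩, ((hbit a ha).1 hbit_a).2, X.M.simple ⟨b, hb⟩, ⟨⟨_, rfl⟩, fun hJb => ?_⟩,
    fun e => hne ?_⟩
  · have := (hbit b hb).2 ⟨hb, hJb⟩
    simp_all
  · have := congrArg (fun w => (X.good.hom w ⟨r, hr⟩).val) e
    simpa [X.good.hom_simple, X.good.sigmaPerm_val] using this

end TypeData

end Cfsg.Agent.H37.Chev
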